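import Cfsg.Agent.SquareFreeClasses.Derived

/-!
Groups with square-free class sizes: the derived subgroup is cyclic of square-free order, the group is
supersolvable, and its Fitting subgroup has cyclic square-free index and class at most two.
-/

set_option autoImplicit false

namespace CfsgLib.SquareFreeClasses

open OneMMN
open scoped commutatorElement

universe u

theorem supersolvable_of_comm : ∀ (N : ℕ) (G : Type u) [Group G] [Finite G], Nat.card G = N →
    (∀ a b : G, a * b = b * a) → Cfsg.IsSupersolvable G := by
  intro N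
  induction N using Nat.strong_induction_on with
  | _ N ih =>
  intro G _ _ hN hab
  by_cases hG : Subsingleton G
  · exact Hall.Supersolv.isSupersolvable_of_subsingleton
  obtain ⟨x, hx⟩ : ∃ x : G, x ≠ 1 := by
    by_contra hno
    push Not at hno
    exact hG ⟨fun a b => by rw [hno a, hno b]⟩
  haveI := zpowers_normal_of_central (s := x) (Subgroup.mem_center_iff.2 fun g => hab g x)
  refine Hall.Supersolv.isSupersolvable_of_cyclic_normal (Subgroup.zpowers x) (ih _ ?_ _ rfl ?_)
  · rw [← hN]
    exact Hall.Supersolv.card_quotient_lt (by rwa [Ne, Subgroup.zpowers_eq_bot])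
  · intro a b
    obtain ⟨a, rfl⟩ := QuotientGroup.mk'_surjective _ a
    obtain ⟨b, rfl⟩ := QuotientGroup.mk'_surjective _ b
    rw [← map_mul, ← map_mul, hab]

variable {G : Type u} [Group G] [Finite G]

theorem isCyclic_of_comm_squarefree {A : Type*} [Group A] [Finite A] (hab : ∀ a b : A, a * b = b * a)
    (hsq : Squarefree (Nat.card A)) : IsCyclic A := by
  haveI := IsZGroup.of_squarefree hsq
  haveI : Group.IsNilpotent A := Group.IsNilpotent.mk ⟨1, by
    rw [Subgroup.upperCentralSeries_one, eq_top_iff]
    exact fun a _ => Subgroup.mem_center_iff.2 fun b => hab b a⟩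
  infer_instance

theorem commutator_squarefree (h : SF G) : Squarefree (Nat.card (commutator G)) := by
  rw [Nat.squarefree_iff_prime_squarefree]
  intro r hr hd
  haveI := Fact.mk hr
  exact not_sq_dvd h (r := r) (by rwa [sq])

/-- A squarefree derived subgroup is cyclic. -/
theorem commutator_isCyclic (hsq : Squarefree (Nat.card (commutator G))) : IsCyclic (commutator G) := by
  set D := commutator G
  haveI : IsZGroup D := IsZGroup.of_squarefree hsq
  -- conjugation is trivial on cyclic normal subgroups
  have hcyc : ∀ N : Subgroup G, N.Normal → IsCyclic N → D ≤ Subgroup.centralizer (N : Set G) := by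
    intro N hN hc
    obtain ⟨⟨z, hz⟩, hgen⟩ := hc.exists_generator
    have hpow : ∀ g : G, ∃ k : ℤ, g * z * g⁻¹ = z ^ k := fun g => by
      obtain ⟨k, hk⟩ := Subgroup.mem_zpowers_iff.1 (hgen ⟨_, hN.conj_mem z hz g⟩)
      exact ⟨k, (congrArg Subtype.val hk).symm⟩
    refine le_trans ?_ (show C z ≤ Subgroup.centralizer (N : Set G) from fun g hg => ?_)
    · rw [show D = ⁅(⊤ : Subgroup G), ⊤⁆ from rfl, Subgroup.commutator_le]
      intro a _ b _
      obtain ⟨i, hi⟩ := hpow a
      obtain ⟨j, hj⟩ := hpow b
      have h1 : (a * b) * z * (a * b)⁻¹ = (b * a) * z * (b * a)⁻¹ := by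
        calc (a * b) * z * (a * b)⁻¹ = a * (b * z * b⁻¹) * a⁻¹ := by group
          _ = (a * z * a⁻¹) ^ j := by rw [hj, conj_zpow]
          _ = (b * z * b⁻¹) ^ i := by rw [hi, hj, ← zpow_mul, ← zpow_mul, mul_comm]
          _ = b * (z ^ i) * b⁻¹ := conj_zpow
          _ = _ := by rw [← hi]; group
      obtain ⟨k, hk⟩ := hpow (b * a)⁻¹
      have h2 : a * b * (b * a)⁻¹ * z * (a * b * (b * a)⁻¹)⁻¹ = z := by
        calc a * b * (b * a)⁻¹ * z * (a * b * (b * a)⁻¹)⁻¹
            = (a * b) * ((b * a)⁻¹ * z * (b * a)⁻¹⁻¹) * (a * b)⁻¹ := by group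
          _ = ((a * b) * z * (a * b)⁻¹) ^ k := by rw [hk, conj_zpow]
          _ = (b * a) * (z ^ k) * (b * a)⁻¹ := by rw [h1, conj_zpow]
          _ = _ := by rw [← hk]; group
      rw [show ⁅a, b⁆ = a * b * (b * a)⁻¹ by rw [commutatorElement_def]; group]
      exact mem_C.2 (mul_inv_eq_iff_eq_mul.1 h2)
    · rw [Subgroup.mem_centralizer_iff]
      intro w hw
      obtain ⟨k, hk⟩ := Subgroup.mem_zpowers_iff.1 (hgen ⟨w, hw⟩)
      have hk' : z ^ k = w := congrArg Subtype.val hk
      rw [← hk']
      exact (((show Commute g z from mem_C.1 hg)).zpow_right k).eq.symm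
  -- the second derived subgroup
  set E := (commutator D).map D.subtype
  haveI hEn : E.Normal := inferInstance
  haveI hEc : IsCyclic (commutator D) := IsZGroup.isCyclic_commutator _
  have hE : IsCyclic E := isCyclic_of_surjective
    (Subgroup.equivMapOfInjective (commutator D) D.subtype (Subgroup.subtype_injective D))
    (MulEquiv.surjective _)
  have hcen : commutator D ≤ Subgroup.center D := fun c hc => Subgroup.mem_center_iff.2 fun a =>
    Subtype.ext ((Subgroup.mem_centralizer_iff.1 (hcyc E hEn hE a.2) c.1 (Subgroup.mem_map_of_mem _ hc)).symm)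
  have habel : ∀ a b : D, a * b = b * a := fun a b =>
    (commutative_of_cyclic_center_quotient (Abelianization.of (G := D))
      (by rw [Abelianization.ker_of]; exact hcen)) a b
  exact isCyclic_of_comm_squarefree habel hsq

theorem main (h : SF G) :
    Cfsg.IsSupersolvable G ∧ (Cfsg.fittingSubgroup G).Normal ∧
    (∀ _h : (Cfsg.fittingSubgroup G).Normal, IsCyclic (G ⧸ Cfsg.fittingSubgroup G) ∧
      Squarefree (Cfsg.fittingSubgroup G).index) ∧
    IsCyclic (commutator G) ∧ Squarefree (Nat.card (commutator G)) ∧
    Subgroup.upperCentralSeries ↥(Cfsg.fittingSubgroup G) 2 = ⊤ ∧ commutator ↥(commutator G) = ⊥ := by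
  have hsq := commutator_squarefree h
  haveI hcyc := commutator_isCyclic hsq
  have habel : ∀ a b : commutator G, a * b = b * a := fun a b => IsCyclic.commutative.is_comm.comm a b
  have hmem : ∀ a b : G, ⁅a, b⁆ ∈ commutator G := fun a b =>
    (commutator_def G) ▸ Subgroup.commutator_mem_commutator (Subgroup.mem_top a) (Subgroup.mem_top b)
  -- the centralizer of the derived subgroup
  obtain ⟨⟨z, hz⟩, hgen⟩ := hcyc.exists_generator
  set K := Subgroup.centralizer ((commutator G : Subgroup G) : Set G) with hK
  haveI hKn : K.Normal := Subgroup.normal_centralizer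
  have hKz : K = C z := by
    refine le_antisymm (fun g hg => mem_C.2 (Subgroup.mem_centralizer_iff.1 hg z hz).symm) fun g hg => ?_
    rw [hK, Subgroup.mem_centralizer_iff]
    intro w hw
    obtain ⟨k, hk⟩ := Subgroup.mem_zpowers_iff.1 (hgen ⟨w, hw⟩)
    have hk' : z ^ k = w := congrArg Subtype.val hk
    rw [← hk']
    exact (((show Commute g z from mem_C.1 hg)).zpow_right k).eq.symm
  have hGK : commutator G ≤ K := fun a ha => Subgroup.mem_centralizer_iff.2 fun b hb =>
    congrArg Subtype.val (habel ⟨b, hb⟩ ⟨a, ha⟩)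
  have hKcyc : IsCyclic (G ⧸ K) := by
    refine isCyclic_of_comm_squarefree (fun a b => ?_) (by rw [← Subgroup.index, hKz]; exact h z)
    obtain ⟨a, rfl⟩ := QuotientGroup.mk'_surjective K a
    obtain ⟨b, rfl⟩ := QuotientGroup.mk'_surjective K b
    rw [← commutatorElement_eq_one_iff_mul_comm, ← map_commutatorElement]
    exact (QuotientGroup.eq_one_iff _).2 (hGK (hmem a b))
  have hKnil : Group.IsNilpotent K := by
    refine Subgroup.isNilpotent_of_ker_le_center (Abelianization.of (G := K)) ?_
    rw [Abelianization.ker_of]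
    intro c hc
    rw [Subgroup.mem_center_iff]
    intro g
    refine Subtype.ext (Subgroup.mem_centralizer_iff.1 g.2 (c : G) ?_).symm
    have hle : (commutator K).map K.subtype ≤ commutator G := by
      rw [Subgroup.map_le_iff_le_comap, show commutator K = ⁅(⊤ : Subgroup K), ⊤⁆ from rfl, Subgroup.commutator_le]
      intro a _ b _
      rw [Subgroup.mem_comap, map_commutatorElement]
      exact hmem _ _
    exact hle (Subgroup.mem_map_of_mem _ hc)
  set F := Cfsg.fittingSubgroup G
  have hKF : K ≤ F := Components.le_fittingSubgroup hKn hKnil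
  haveI hFn : F.Normal := Components.fittingSubgroup_normal
  haveI hFnil : Group.IsNilpotent F := Components.fittingSubgroup_isNilpotent
  refine ⟨?_, hFn, fun _ => ⟨?_, ?_⟩, hcyc, hsq, ?_, ?_⟩
  · refine Hall.Supersolv.isSupersolvable_of_cyclic_normal (commutator G) (supersolvable_of_comm _ _ rfl ?_)
    intro a b
    obtain ⟨a, rfl⟩ := QuotientGroup.mk'_surjective _ a
    obtain ⟨b, rfl⟩ := QuotientGroup.mk'_surjective _ b
    rw [← commutatorElement_eq_one_iff_mul_comm, ← map_commutatorElement]
    exact (QuotientGroup.eq_one_iff _).2 (hmem a b)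
  · refine isCyclic_of_surjective (QuotientGroup.map K F (MonoidHom.id G) hKF) fun q => ?_
    obtain ⟨g, rfl⟩ := QuotientGroup.mk_surjective q
    exact ⟨QuotientGroup.mk g, rfl⟩
  · exact (hKz ▸ h z).squarefree_of_dvd (Subgroup.index_dvd_of_le hKF)
  · -- class two
    have hcen : commutator F ≤ Subgroup.center F := by
      refine le_of_pElts fun q hq x hx hxq => ?_
      haveI := Fact.mk hq
      by_cases hx1 : x = 1
      · rw [hx1]; exact one_mem _
      have hxG : (x : G) ∈ commutator G := by
        have hle : (commutator F).map F.subtype ≤ commutator G := by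
          rw [Subgroup.map_le_iff_le_comap, show commutator F = ⁅(⊤ : Subgroup F), ⊤⁆ from rfl,
            Subgroup.commutator_le]
          intro a _ b _
          rw [Subgroup.mem_comap, map_commutatorElement]
          exact hmem _ _
        exact hle (Subgroup.mem_map_of_mem _ hx)
      -- its powers form a normal subgroup of prime order
      have hord : orderOf x = q := by
        obtain ⟨k, hk⟩ := hxq
        have hd := Subgroup.orderOf_dvd_natCard (commutator G) hxG
        rw [Subgroup.orderOf_coe, hk] at hd
        have hk2 : k < 2 := by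
          by_contra h2
          have : q ^ 2 ∣ Nat.card (commutator G) := (pow_dvd_pow q (by omega)).trans hd
          rw [sq] at this
          exact hq.ne_one (Nat.isUnit_iff.1 (hsq q this))
        interval_cases k
        · exact absurd (orderOf_eq_one_iff.1 (by rw [hk, pow_zero])) hx1
        · rw [hk, pow_one]
      haveI : (Subgroup.zpowers x).Normal := ⟨fun w hw f => by
        have h1 : (f : G) * w * (f : G)⁻¹ ∈ Subgroup.zpowers (x : G) := by
          obtain ⟨k, hk⟩ := Subgroup.mem_zpowers_iff.1 (hgen ⟨x, hxG⟩)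
          have hk' : z ^ k = (x : G) := congrArg Subtype.val hk
          obtain ⟨l, hl⟩ := Subgroup.mem_zpowers_iff.1
            (hgen ⟨_, (inferInstance : (commutator G).Normal).conj_mem z hz (f : G)⟩)
          have hl' : z ^ l = (f : G) * z * (f : G)⁻¹ := congrArg Subtype.val hl
          obtain ⟨i, rfl⟩ := hw
          refine Subgroup.mem_zpowers_iff.2 ⟨l * i, ?_⟩
          rw [SubgroupClass.coe_zpow, ← hk', ← conj_zpow, ← conj_zpow, ← hl', ← zpow_mul, ← zpow_mul, ← zpow_mul]
          congr 1
          ring
        obtain ⟨i, hi⟩ := h1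
        exact ⟨i, Subtype.ext (by simpa using hi)⟩⟩
      have hne : Subgroup.zpowers x ⊓ Subgroup.center F ≠ ⊥ :=
        Hall.Struct.inf_center_ne_bot _ (by rwa [Ne, Subgroup.zpowers_eq_bot])
      have hd := Subgroup.card_dvd_of_le (inf_le_left : Subgroup.zpowers x ⊓ Subgroup.center F ≤ Subgroup.zpowers x)
      rw [Nat.card_zpowers, hord] at hd
      have hc := ((Nat.dvd_prime hq).1 hd).resolve_left fun e => hne (Subgroup.eq_bot_of_card_eq _ e)
      have := eq_of_le_of_card (inf_le_left : Subgroup.zpowers x ⊓ Subgroup.center F ≤ Subgroup.zpowers x)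
        (by rw [hc, Nat.card_zpowers, hord])
      exact (this.ge (Subgroup.mem_zpowers x)).2
    rw [eq_top_iff]
    intro x _
    rw [Subgroup.mem_upperCentralSeries_succ_iff]
    intro y
    rw [Subgroup.upperCentralSeries_one]
    refine hcen ?_
    rw [show commutator F = ⁅(⊤ : Subgroup F), ⊤⁆ from rfl]
    exact Subgroup.commutator_mem_commutator (Subgroup.mem_top x) (Subgroup.mem_top y)
  · rw [eq_bot_iff, show commutator (commutator G) = ⁅(⊤ : Subgroup (commutator G)), ⊤⁆ from rfl,
      Subgroup.commutator_le]
    intro a _ b _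
    rw [Subgroup.mem_bot, commutatorElement_eq_one_iff_mul_comm]
    exact habel a b

end CfsgLib.SquareFreeClasses
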