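import Cfsg.Agent.OneMMN.Core

/-!
An abelian Sylow subgroup for the smallest prime `p`, when no element of order prime to `p` has class size
divisible by `p ^ 2`, lies in the centre of its normalizer. The proof counts the pairs of a `p`-element and a
commuting element of order prime to `p`.
-/

set_option autoImplicit false

namespace CfsgLib.SquareFreeClasses

open OneMMN

universe u

variable {G : Type u} [Group G] {p : ℕ}

theorem zpowers_normal_of_central {s : G} (hs : s ∈ Subgroup.center G) : (Subgroup.zpowers s).Normal :=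
  ⟨fun x hx g => by rw [Subgroup.mem_center_iff.1 ((Subgroup.zpowers_le.2 hs) hx) g, mul_inv_cancel_right]; exact hx⟩

/-- The pairs of a `p`-element and a commuting element of order prime to `p`. -/
abbrev Pairs (p : ℕ) (G : Type u) [Group G] :=
  {w : G × G // PElt p w.1 ∧ ¬ p ∣ orderOf w.2 ∧ w.1 * w.2 = w.2 * w.1}

theorem PElt.inv' {x : G} (h : PElt p x) : PElt p x⁻¹ := by
  obtain ⟨k, hk⟩ := h
  exact ⟨k, by rw [orderOf_inv, hk]⟩

theorem pow_card_pairs [Finite G] (hp : p.Prime) : Nat.card (Pairs p G) = Nat.card G := by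
  refine Nat.card_congr (Equiv.ofBijective (fun w : Pairs p G => w.1.1 * w.1.2) ⟨?_, ?_⟩)
  · rintro ⟨⟨a, b⟩, ha, hb, hab⟩ ⟨⟨c, d⟩, hc, hd, hcd⟩ (e : a * b = c * d)
    dsimp only at ha hb hab hc hd hcd
    have hac : Commute a c := by
      obtain ⟨i, hi⟩ := mem_zpowers_mul hab (ha.coprime hp hb)
      obtain ⟨j, hj⟩ := mem_zpowers_mul hcd (hc.coprime hp hd)
      rw [← hi, ← hj, ← e]
      exact Commute.zpow_zpow_self _ _ _
    have hbd : Commute b d := by
      obtain ⟨i, hi⟩ := mem_zpowers_mul hab.symm (ha.coprime hp hb).symm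
      obtain ⟨j, hj⟩ := mem_zpowers_mul hcd.symm (hc.coprime hp hd).symm
      rw [← hi, ← hj, ← hcd, ← hab, ← e]
      exact Commute.zpow_zpow_self _ _ _
    have h1 : c⁻¹ * a = d * b⁻¹ := by
      calc c⁻¹ * a = c⁻¹ * (a * b) * b⁻¹ := by group
        _ = _ := by rw [e]; group
    have hcb : PElt p (c⁻¹ * a) := by
      obtain ⟨k, hk⟩ := ha
      obtain ⟨l, hl⟩ := hc
      have : (c⁻¹ * a) ^ (p ^ (k + l)) = 1 := by
        rw [hac.symm.inv_left.mul_pow, inv_pow, pow_add, pow_mul a, ← hk, pow_orderOf_eq_one, one_pow, mul_one,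
          mul_comm, pow_mul, ← hl, pow_orderOf_eq_one, one_pow, inv_one]
      obtain ⟨i, -, hi⟩ := (Nat.dvd_prime_pow hp).1 (orderOf_dvd_of_pow_eq_one this)
      exact ⟨i, hi⟩
    have h2 : c⁻¹ * a = 1 := hcb.eq_one hp fun h => by
      rw [h1] at h
      have h3 : p ∣ Nat.lcm (orderOf d) (orderOf b⁻¹) := h.trans hbd.symm.inv_right.orderOf_mul_dvd_lcm
      rw [orderOf_inv] at h3
      exact (hp.dvd_mul.1 (h3.trans (Nat.lcm_dvd_mul _ _))).elim hd hb
    obtain rfl : c = a := inv_mul_eq_one.1 h2
    obtain rfl : b = d := mul_left_cancel e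
    rfl
  · intro g
    obtain ⟨u, v, rfl, h, hu, hv, -, -⟩ := split hp g
    exact ⟨⟨⟨u, v⟩, hu, hv, h⟩, rfl⟩

theorem mem_of_pow_mem {H : Subgroup G} {x : G} {k : ℕ} (h : x ^ k ∈ H) (hk : k.Coprime (orderOf x)) :
    x ∈ H := by
  obtain ⟨t, ht⟩ := exists_pow_eq_self_of_coprime hk
  exact ht ▸ pow_mem h t

theorem exists_pPart_mem [Finite G] [Fact p.Prime] (S : Sylow p G) {y : G}
    (hy : y ∈ Subgroup.normalizer ((S : Subgroup G) : Set G)) (hyp : PElt p y) : y ∈ (S : Subgroup G) := by
  have h : IsPGroup p ((S : Subgroup G) ⊔ Subgroup.zpowers y : Subgroup G) :=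
    S.isPGroup'.to_sup_of_normal_left' hyp.isPGroup_zpowers (Subgroup.zpowers_le.2 hy)
  exact S.is_maximal' h le_sup_left ▸ Subgroup.mem_sup_right (Subgroup.mem_zpowers y)

theorem normalizer_le_centralizer : ∀ (N : ℕ) {G : Type u} [Group G] [Finite G], Nat.card G = N →
    ∀ (p : ℕ) [Fact p.Prime], (∀ r : ℕ, r.Prime → r ∣ Nat.card G → p ≤ r) → ∀ S : Sylow p G,
    (∀ a ∈ (S : Subgroup G), ∀ b ∈ (S : Subgroup G), a * b = b * a) →
    (∀ y : G, ¬ p ∣ orderOf y → ¬ p ^ 2 ∣ (C y).index) →
    Subgroup.normalizer ((S : Subgroup G) : Set G) ≤ Subgroup.centralizer ((S : Subgroup G) : Set G) := by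
  intro N
  induction N using Nat.strong_induction_on with
  | _ N ih =>
  intro G _ _ hN p _ hmin S hS hidx
  have hp : p.Prime := Fact.out
  set a := (Nat.card G).factorization p with ha
  have hcardS : Nat.card (S : Subgroup G) = p ^ a := S.card_eq_multiplicity
  by_cases ha1 : a ≤ 1
  · by_cases ha0 : a = 0
    · intro y _
      rw [Subgroup.mem_centralizer_iff]
      intro t ht
      rw [ha0, pow_zero, Subgroup.card_eq_one] at hcardS
      rw [hcardS] at ht
      obtain rfl : t = 1 := Subgroup.mem_bot.1 ht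
      rw [one_mul, mul_one]
    refine IsCyclic.normalizer_le_centralizer ?_
      (isCyclic_of_prime_card (p := p) (by rw [hcardS, show a = 1 by omega, pow_one]))
    have hpd : p ∣ Nat.card G := Nat.dvd_of_factorization_pos ha0
    exact le_antisymm (Nat.minFac_le_of_dvd hp.two_le hpd)
      (hmin _ (Nat.minFac_prime fun h => hp.ne_one (Nat.dvd_one.1 (h ▸ hpd))) (Nat.minFac_dvd _))
  by_contra hnot
  set Nm := Subgroup.normalizer ((S : Subgroup G) : Set G)
  set Cs := Subgroup.centralizer ((S : Subgroup G) : Set G)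
  -- a Sylow subgroup of the centralizer of an element of order prime to `p`
  have hbig : ∀ y : G, ¬ p ∣ orderOf y → a ≤ (Nat.card (C y)).factorization p + 1 := by
    intro y hy
    have h1 := congrArg (fun k => k.factorization p) (C y).card_mul_index
    simp only [Nat.factorization_mul Nat.card_pos.ne' Subgroup.index_ne_zero_of_finite, Finsupp.add_apply] at h1
    have h2 : (C y).index.factorization p < 2 := by
      by_contra h3
      exact hidx y hy ((hp.pow_dvd_iff_le_factorization Subgroup.index_ne_zero_of_finite).2 (by omega))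
    omega
  -- elements outside the centralizer act freely
  have hfree : ∀ y ∈ Nm, y ∉ Cs → ∀ s ∈ (S : Subgroup G), y * s = s * y → s = 1 := by
    intro y0 hy0 hy0C s hs hys
    by_contra hs1
    obtain ⟨b, y, rfl, -, hb, hy, hbz, hyz⟩ := split hp y0
    have hbS : b ∈ (S : Subgroup G) := exists_pPart_mem S (Subgroup.zpowers_le.2 hy0 hbz) hb
    have hbC : b ∈ Cs := Subgroup.mem_centralizer_iff.2 fun t ht => hS t ht b hbS
    have hyN : y ∈ Nm := Subgroup.zpowers_le.2 hy0 hyz
    have hyC : y ∉ Cs := fun h => hy0C (mul_mem hbC h)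
    have hys' : y ∈ C s := Subgroup.zpowers_le.2 (mem_C.2 hys) hyz
    have hsp : PElt p s := PElt.of_mem hp S.isPGroup' hs
    by_cases htop : C s = ⊤
    · -- a central element
      have hsc := mem_center_iff_C.2 htop
      haveI := zpowers_normal_of_central hsc
      let π := QuotientGroup.mk' (Subgroup.zpowers s)
      have hπ : Function.Surjective π := QuotientGroup.mk'_surjective _
      have hlt : Nat.card (G ⧸ Subgroup.zpowers s) < N := by
        rw [← hN, (Subgroup.zpowers s).card_eq_card_quotient_mul_card_subgroup]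
        refine lt_mul_of_one_lt_right Nat.card_pos ?_
        rw [Subgroup.one_lt_card_iff_ne_bot, Ne, Subgroup.zpowers_eq_bot]
        exact hs1
      have hih := ih _ hlt rfl p (fun r hr hrd => hmin r hr (hrd.trans (Subgroup.card_quotient_dvd_card _)))
        (S.mapSurjective hπ) ?_ ?_
      · apply hyC
        rw [Subgroup.mem_centralizer_iff]
        intro t ht
        have h1 : π y * π t = π t * π y := by
          have hyimg : π y ∈ Subgroup.normalizer (((S : Subgroup G).map π : Subgroup _) : Set _) :=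
            Subgroup.le_normalizer_map π (Subgroup.mem_map_of_mem π hyN)
          exact (Subgroup.mem_centralizer_iff.1 (hih hyimg) (π t) (Subgroup.mem_map_of_mem π ht)).symm
        have hd : t⁻¹ * (y * t * y⁻¹) ∈ Subgroup.zpowers s := by
          rw [← QuotientGroup.eq_one_iff]
          show π (t⁻¹ * (y * t * y⁻¹)) = 1
          rw [map_mul, map_mul, map_mul, h1, map_inv, map_inv, mul_inv_cancel_right, inv_mul_cancel]
        set d := t⁻¹ * (y * t * y⁻¹) with hdd
        have hdc : d ∈ Subgroup.center G := (Subgroup.zpowers_le.2 hsc) hd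
        have he := conj_pow_step (show y * t * y⁻¹ = t * d by rw [hdd, mul_inv_cancel_left])
          (Subgroup.mem_center_iff.1 hdc y) (orderOf y)
        rw [pow_orderOf_eq_one, inv_one, one_mul, mul_one, left_eq_mul] at he
        have hd1 : d = 1 := (PElt.of_mem hp S.isPGroup' ((Subgroup.zpowers_le.2 hs) hd)).eq_one hp
          fun h => hy (h.trans (orderOf_dvd_of_pow_eq_one he))
        rw [hdd, inv_mul_eq_one, eq_mul_inv_iff_mul_eq] at hd1
        exact hd1
      · rintro _ ⟨c, hc, rfl⟩ _ ⟨d, hd, rfl⟩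
        rw [← map_mul, ← map_mul, hS c hc d hd]
      · intro z hz hd
        obtain ⟨g, rfl⟩ := hπ z
        obtain ⟨c, e, rfl, hce, hc, he, hcz, -⟩ := split hp g
        have hc1 : π c = 1 := by
          obtain ⟨k, hk⟩ := hc
          refine PElt.eq_one hp ?_ fun h => hz (h.trans (orderOf_dvd_of_mem_zpowers ?_))
          · obtain ⟨i, -, hi⟩ := (Nat.dvd_prime_pow hp).1 (hk ▸ orderOf_map_dvd π c)
            exact ⟨i, hi⟩
          · obtain ⟨i, hi⟩ := hcz
            exact ⟨i, (map_zpow π _ i).symm.trans (congrArg π hi)⟩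
        rw [map_mul, hc1, one_mul] at hd
        exact hidx e he (hd.trans (ClassSize.index_centralizer_map_dvd π hπ e))
    · -- a proper centralizer
      set H := C s
      have hSH : (S : Subgroup G) ≤ H := fun t ht => mem_C.2 (hS t ht s hs)
      have hlt : Nat.card H < N := hN ▸ lt_of_le_of_ne (Subgroup.card_le_card_group H)
        fun h => htop (Subgroup.eq_top_of_card_eq H h)
      have hih := ih _ hlt rfl p (fun r hr hrd => hmin r hr (hrd.trans (Subgroup.card_subgroup_dvd_card _)))
        (S.subtype hSH) ?_ ?_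
      · apply hyC
        rw [Subgroup.mem_centralizer_iff]
        intro t ht
        have h1 : (⟨y, hys'⟩ : H) ∈ Subgroup.normalizer ((S.subtype hSH : Subgroup H) : Set H) := by
          rw [Subgroup.mem_normalizer_iff]
          intro x
          exact Subgroup.mem_normalizer_iff.1 hyN x.1
        exact congrArg Subtype.val (Subgroup.mem_centralizer_iff.1 (hih h1) ⟨t, hSH ht⟩ ht)
      · intro c hc d hd
        exact Subtype.ext (hS c.1 hc d.1 hd)
      · intro z hz hd
        have hzG : ¬ p ∣ orderOf (z : G) := by rwa [Subgroup.orderOf_coe]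
        have hsz : s ∈ C (z : G) := mem_C_comm.1 z.2
        obtain ⟨T, hT⟩ := (hsp.isPGroup_zpowers.of_equiv
          (Subgroup.subgroupOfEquivOfLe (Subgroup.zpowers_le.2 hsz)).symm).exists_le_sylow
        set T' := (T : Subgroup (C (z : G))).map (C (z : G)).subtype
        have hT's : s ∈ T' := ⟨⟨s, hsz⟩, hT (Subgroup.mem_subgroupOf.2 (Subgroup.mem_zpowers s)), rfl⟩
        have hT'H : T' ≤ C (z : G) ⊓ H := by
          refine le_inf (Subgroup.map_subtype_le _) fun t ht => mem_C.2 ?_
          obtain ⟨g, hg⟩ := exists_conj_mem_sylow S (T.isPGroup'.map (C (z : G)).subtype)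
          have := hS _ (hg t ht) _ (hg s hT's)
          calc t * s = g⁻¹ * ((g * t * g⁻¹) * (g * s * g⁻¹)) * g := by group
            _ = _ := by rw [this]; group
        have hT'c : Nat.card T' = p ^ (Nat.card (C (z : G))).factorization p := by
          rw [Subgroup.card_map_of_injective (Subgroup.subtype_injective _), T.card_eq_multiplicity]
        have e : Subgroup.centralizer ({z} : Set H) = (C (z : G)).subgroupOf H := by
          ext x
          rw [Subgroup.mem_subgroupOf, Subgroup.mem_centralizer_singleton_iff, mem_C, Subtype.ext_iff]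
          rfl
        rw [show C z = (C (z : G)).subgroupOf H from e] at hd
        have hdd : p ^ ((Nat.card (C (z : G))).factorization p + 2) ∣ Nat.card H := by
          rw [← Subgroup.card_mul_index ((C (z : G)).subgroupOf H), pow_add, ← hT'c]
          refine Nat.mul_dvd_mul ?_ hd
          exact (Subgroup.card_dvd_of_le hT'H).trans (by
            rw [← Subgroup.inf_subgroupOf_right, Nat.card_congr (Subgroup.subgroupOfEquivOfLe inf_le_right).toEquiv])
        have h1 := (hp.pow_dvd_iff_le_factorization Nat.card_pos.ne').1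
          (hdd.trans (Subgroup.card_subgroup_dvd_card H))
        have h2 := hbig z hzG
        omega
  -- the quotient `Nm / Cs`
  haveI hCn : (Cs.subgroupOf Nm).Normal := ⟨fun c hc n => by
    rw [Subgroup.mem_subgroupOf] at hc ⊢
    rw [Subgroup.mem_centralizer_iff]
    intro t ht
    have ht' : (n : G)⁻¹ * t * n ∈ (S : Subgroup G) :=
      (Subgroup.mem_normalizer_iff''.1 n.2 t).1 ht
    have h2 := Subgroup.mem_centralizer_iff.1 hc _ ht'
    simp only [Subgroup.coe_mul, Subgroup.coe_inv]
    calc t * ((n : G) * c * (n : G)⁻¹) = n * ((n : G)⁻¹ * t * n * c) * (n : G)⁻¹ := by group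
      _ = _ := by rw [h2]; group⟩
  set d := (Cs.subgroupOf Nm).index with hd
  have hd3 : 3 ≤ d := by
    have hd1 : d ≠ 1 := fun h => hnot (Subgroup.subgroupOf_eq_top.1 (Subgroup.index_eq_one.1 h))
    have hpd : ¬ p ∣ d := by
      intro h
      have hSC : (S : Subgroup G) ≤ Cs := fun t ht =>
        Subgroup.mem_centralizer_iff.2 fun b hb => hS b hb t ht
      have h1 := Subgroup.index_dvd_of_le hSC
      have h2 : d ∣ Cs.index := Subgroup.relIndex_dvd_index_of_le
        (fun x hx => Subgroup.mem_normalizer_iff.2 fun t => ⟨fun ht => by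
          rw [← Subgroup.mem_centralizer_iff.1 hx t ht, mul_inv_cancel_right]; exact ht,
          fun ht => by
          have h3 := Subgroup.mem_centralizer_iff.1 hx _ ht
          have h4 : x * t * x⁻¹ = t := by
            calc x * t * x⁻¹ = x⁻¹ * (x * (x * t * x⁻¹)) := by group
              _ = _ := by rw [← h3]; group
          rwa [h4] at ht⟩)
      exact S.not_dvd_index ((h.trans h2).trans h1)
    obtain ⟨r, hr, hrd⟩ := Nat.exists_prime_and_dvd hd1
    have h3 := hmin r hr (hrd.trans ((Subgroup.index_dvd_card _).trans (Subgroup.card_subgroup_dvd_card _)))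
    have h4 : r ≠ p := fun e => hpd (e ▸ hrd)
    have := hp.two_le
    have := Nat.le_of_dvd (Nat.pos_of_ne_zero Subgroup.index_ne_zero_of_finite) hrd
    omega
  obtain ⟨y0, hy0, hy0C⟩ := SetLike.not_le_iff_exists.1 hnot
  have hnc : ∀ s ∈ (S : Subgroup G), s ≠ 1 → C s ≠ ⊤ := fun s hs hs1 h =>
    hs1 (hfree y0 hy0 hy0C s hs (mem_C.1 (h ▸ Subgroup.mem_top y0)))
  -- elements of order prime to `p` in the centralizer of a non-trivial element of `S`
  have hK : ∀ s ∈ (S : Subgroup G), s ≠ 1 →
      Nat.card {y : G // ¬ p ∣ orderOf y ∧ s * y = y * s} * p ^ a ≤ Nat.card (C s) := by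
    intro s hs hs1
    set H := C s
    have hSH : (S : Subgroup G) ≤ H := fun t ht => mem_C.2 (hS t ht s hs)
    set SH := S.subtype hSH
    have hSHN : Subgroup.normalizer ((SH : Subgroup H) : Set H) ≤ Subgroup.centralizer ((SH : Subgroup H) : Set H) := by
      intro y hy
      rw [Subgroup.mem_centralizer_iff]
      intro t ht
      refine Subtype.ext ?_
      by_contra hne
      have hyN : (y : G) ∈ Nm := by
        rw [Subgroup.mem_normalizer_iff]
        intro x
        constructor
        · intro hx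
          exact (Subgroup.mem_normalizer_iff.1 hy ⟨x, hSH hx⟩).1 hx
        · intro hx
          have hxH : x ∈ H := by
            have := mul_mem (mul_mem (inv_mem y.2) (hSH hx)) y.2
            simpa [mul_assoc] using this
          exact (Subgroup.mem_normalizer_iff.1 hy ⟨x, hxH⟩).2 hx
      exact hs1 (hfree y hyN (fun hc => hne (Subgroup.mem_centralizer_iff.1 hc t ht)) s hs (mem_C.1 y.2))
    set K := (MonoidHom.transferSylow SH hSHN).ker
    have hKc := MonoidHom.ker_transferSylow_isComplement' SH hSHN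
    have hKi : K.index = p ^ a := by
      rw [hKc.symm.index_eq_card, ← hcardS]
      exact Nat.card_congr (Subgroup.subgroupOfEquivOfLe hSH).toEquiv
    rw [← K.card_mul_index, hKi]
    refine Nat.mul_le_mul_right _ (Nat.card_le_card_of_injective
      (fun y : {y : G // ¬ p ∣ orderOf y ∧ s * y = y * s} => (⟨⟨y.1, mem_C.2 y.2.2.symm⟩, ?_⟩ : K)) ?_)
    · refine mem_of_pow_mem (Subgroup.pow_index_mem K _) ?_
      rw [hKi, ← Subgroup.orderOf_coe]
      exact (hp.coprime_iff_not_dvd.2 y.2.1).pow_left _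
    · intro x y h
      exact Subtype.ext (congrArg (fun k : K => ((k : H) : G)) h)
  -- the count
  haveI := Fintype.ofFinite G
  classical
  let e1 : Pairs p G ≃ Σ y : {y : G // ¬ p ∣ orderOf y}, {u : G // PElt p u ∧ u * (y : G) = y * u} :=
    { toFun := fun w => ⟨⟨w.1.2, w.2.2.1⟩, w.1.1, w.2.1, w.2.2.2⟩
      invFun := fun w => ⟨(w.2.1, w.1.1), w.2.2.1, w.1.2, w.2.2.2⟩
      left_inv := fun _ => rfl
      right_inv := fun _ => rfl }
  set F := Nat.card {y : G // ¬ p ∣ orderOf y} with hF
  have hlow : F * p ^ (a - 1) ≤ Nat.card G := by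
    rw [← pow_card_pairs (G := G) hp, Nat.card_congr e1, Nat.card_sigma, hF, Nat.card_eq_fintype_card,
      ← Finset.card_univ, ← smul_eq_mul]
    refine Finset.card_nsmul_le_sum _ _ _ fun y _ => ?_
    obtain ⟨T⟩ := (inferInstance : Nonempty (Sylow p (C (y : G))))
    have h1 : p ^ (a - 1) ≤ Nat.card (T : Subgroup (C (y : G))) := by
      rw [T.card_eq_multiplicity]
      exact Nat.pow_le_pow_right hp.pos (by have := hbig y y.2; omega)
    refine h1.trans (Nat.card_le_card_of_injective
      (fun t : (T : Subgroup (C (y : G))) => (⟨t.1.1, PElt.of_mem hp (T.isPGroup'.map (C (y : G)).subtype)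
        (Subgroup.mem_map_of_mem _ t.2), mem_C.1 t.1.2⟩ : {u : G // PElt p u ∧ u * (y : G) = y * u})) ?_)
    intro t t' h
    exact Subtype.ext (Subtype.ext (congrArg (fun z : {u : G // PElt p u ∧ u * (y : G) = y * u} => z.1) h))
  let e2 : Pairs p G ≃ Σ u : {u : G // PElt p u}, {y : G // ¬ p ∣ orderOf y ∧ (u : G) * y = y * u} :=
    { toFun := fun w => ⟨⟨w.1.1, w.2.1⟩, w.1.2, w.2.2.1, w.2.2.2⟩
      invFun := fun w => ⟨(w.1.1, w.2.1), w.1.2, w.2.2.1, w.2.2.2⟩
      left_inv := fun _ => rfl
      right_inv := fun _ => rfl }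
  let one : {u : G // PElt p u} := ⟨1, 0, by rw [orderOf_one, pow_zero]⟩
  let f : {u : G // PElt p u} → ℕ := fun u => Nat.card {y : G // ¬ p ∣ orderOf y ∧ (u : G) * y = y * u}
  set U := Finset.univ.erase one with hU
  have hsum : Nat.card G = F + ∑ u ∈ U, f u := by
    rw [← pow_card_pairs (G := G) hp, Nat.card_congr e2, Nat.card_sigma,
      ← Finset.add_sum_erase _ _ (Finset.mem_univ one), hF]
    congr 1
    exact Nat.card_congr (Equiv.subtypeEquivRight fun y => by simp [one])
  have hconj : ∀ u ∈ U, ∃ g : G, ∃ s ∈ (S : Subgroup G), s ≠ 1 ∧ (u : G) = g * s * g⁻¹ := by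
    intro u hu
    obtain ⟨g, hg⟩ := exists_conj_mem_sylow S u.2.isPGroup_zpowers
    refine ⟨g⁻¹, _, hg u (Subgroup.mem_zpowers _), fun h => (Finset.mem_erase.1 hu).1 (Subtype.ext ?_), by group⟩
    exact conj_eq_one_iff.1 h
  have hfu : ∀ u ∈ U, f u * p ^ a ≤ Nat.card (C (u : G)) := by
    intro u hu
    obtain ⟨g, s, hs, hs1, he⟩ := hconj u hu
    rw [card_eq_of_index_eq (B := C s) (he ▸ idx_conj g s)]
    refine le_trans (Nat.mul_le_mul_right _ (le_of_eq ?_)) (hK s hs hs1)
    refine Nat.card_congr ((MulAut.conj g⁻¹).toEquiv.subtypeEquiv fun y => ?_)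
    simp only [MulEquiv.toEquiv_eq_coe, EquivLike.coe_coe, MulAut.conj_apply, orderOf_conj, he]
    refine and_congr_right fun _ => ⟨fun h => ?_, fun h => ?_⟩
    · calc s * (g⁻¹ * y * g⁻¹⁻¹) = g⁻¹ * (g * s * g⁻¹ * y) * g := by group
        _ = _ := by rw [h]; group
    · calc g * s * g⁻¹ * y = g * (s * (g⁻¹ * y * g⁻¹⁻¹)) * g⁻¹ := by group
        _ = _ := by rw [h]; group
  have hSigma : (∑ u ∈ U, Nat.card (C (u : G))) * d ≤ Nat.card G * (p ^ a - 1) := by
    have hl : Nat.card (Σ u : U, C ((u.1 : G)) × (Nm ⧸ Cs.subgroupOf Nm)) =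
        (∑ u ∈ U, Nat.card (C (u : G))) * d := by
      rw [Nat.card_sigma, Finset.sum_mul, ← Finset.sum_coe_sort U]
      exact Finset.sum_congr rfl fun u _ => by rw [Nat.card_prod, hd, Subgroup.index]
    have hr : Nat.card (G × {s : (S : Subgroup G) // s ≠ 1}) = Nat.card G * (p ^ a - 1) := by
      rw [Nat.card_prod]
      congr 1
      rw [← hcardS, Nat.card_eq_fintype_card, Nat.card_eq_fintype_card, Fintype.card_subtype_compl,
        Fintype.card_subtype_eq]
    rw [← hl, ← hr]
    choose g s hs hs1 he using hconj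
    refine Nat.card_le_card_of_injective (fun w =>
      (((w.2.1 : G) * g w.1.1 w.1.2 * (w.2.2.out : G)),
        ⟨⟨(w.2.2.out : G)⁻¹ * s w.1.1 w.1.2 * (w.2.2.out : G),
          (Subgroup.mem_normalizer_iff''.1 w.2.2.out.2 _).1 (hs _ _)⟩, ?_⟩)) ?_
    · intro h
      refine hs1 w.1.1 w.1.2 ?_
      have h1 : (w.2.2.out : G)⁻¹ * s w.1.1 w.1.2 * (w.2.2.out : G) = 1 := congrArg Subtype.val h
      calc s w.1.1 w.1.2 = (w.2.2.out : G) * ((w.2.2.out : G)⁻¹ * s w.1.1 w.1.2 * (w.2.2.out : G)) *
            (w.2.2.out : G)⁻¹ := by group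
        _ = _ := by rw [h1]; group
    rintro ⟨⟨u, hu⟩, c, n⟩ ⟨⟨u', hu'⟩, c', n'⟩ h
    simp only [Prod.mk.injEq, Subtype.mk.injEq] at h
    obtain ⟨h1, h2⟩ := h
    have key : ∀ (v : {u : G // PElt p u}) (hv : v ∈ U) (c : C (v : G)) (n : Nm),
        (v : G) = ((c : G) * g v hv * n) * ((n : G)⁻¹ * s v hv * n) * ((c : G) * g v hv * n)⁻¹ := by
      intro v hv c n
      calc (v : G) = (c : G) * (g v hv * s v hv * (g v hv)⁻¹) * (c : G)⁻¹ := by
            rw [← he v hv, mem_C.1 c.2, mul_inv_cancel_right]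
        _ = _ := by group
    obtain rfl : u = u' := Subtype.ext (by rw [key u hu c n.out, h1, h2, ← key u' hu' c' n'.out])
    obtain rfl : n = n' := by
      rw [← n.out_eq', ← n'.out_eq', QuotientGroup.eq, Subgroup.mem_subgroupOf]
      have hx : (n'.out : G) * (n.out : G)⁻¹ ∈ Cs := by
        by_contra hx
        refine hs1 u hu (hfree _ (mul_mem n'.out.2 (inv_mem n.out.2)) hx _ (hs u hu) ?_)
        calc (n'.out : G) * (n.out : G)⁻¹ * s u hu
            = n'.out * ((n.out : G)⁻¹ * s u hu * n.out) * (n.out : G)⁻¹ := by group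
          _ = _ := by rw [h2]; group
      have := hCn.conj_mem ⟨_, mul_mem n'.out.2 (inv_mem n.out.2)⟩ hx n.out⁻¹
      rw [Subgroup.mem_subgroupOf] at this
      simpa [mul_assoc] using this
    obtain rfl : c = c' := Subtype.ext (mul_right_cancel (mul_right_cancel h1))
    rfl
  have hX : (∑ u ∈ U, f u) * p ^ a * d ≤ Nat.card G * (p ^ a - 1) := by
    refine le_trans (Nat.mul_le_mul_right _ ?_) hSigma
    rw [Finset.sum_mul]
    exact Finset.sum_le_sum hfu
  have hpa : p ^ a = p ^ (a - 1) * p := by rw [← pow_succ, Nat.sub_add_cancel (by omega)]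
  have hq2 : 2 ≤ p ^ (a - 1) := hp.two_le.trans (Nat.le_self_pow (by omega) p)
  set X := ∑ u ∈ U, f u
  set q := p ^ (a - 1)
  have hXd : X * d < Nat.card G := by
    have h1 : X * d * (q * p) < Nat.card G * (q * p) := by
      rw [← hpa]
      calc X * d * p ^ a = X * p ^ a * d := by ring
        _ ≤ Nat.card G * (p ^ a - 1) := hX
        _ < _ := Nat.mul_lt_mul_of_pos_left (Nat.sub_lt (pow_pos hp.pos _) one_pos) Nat.card_pos
    exact Nat.lt_of_mul_lt_mul_right h1
  rw [hsum] at hXd hlow
  nlinarith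

end CfsgLib.SquareFreeClasses
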