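import Cfsg.Agent.SquareFreeClasses.Solvable
import Cfsg.Agent.Hall.Fitting

/-!
Groups with square-free class sizes: `r ^ 2` divides the order of the derived subgroup for no prime `r`.
-/

set_option autoImplicit false

namespace CfsgLib.SquareFreeClasses

open OneMMN
open scoped commutatorElement

universe u

variable {G : Type u} [Group G] {r : ℕ}

/-- With trivial `r'`-core the Sylow `r`-subgroup is normal. -/
theorem sylow_normal : ∀ (N : ℕ) (G : Type u) [Group G] [Finite G], Nat.card G = N → SF G →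
    ∀ (r : ℕ) [Fact r.Prime], Cfsg.pPrimeCore r G = ⊥ → ∀ S : Sylow r G, (S : Subgroup G) = Cfsg.pCore r G := by
  intro N
  induction N using Nat.strong_induction_on with
  | _ N ih =>
  intro G _ _ hN h r _ hcore S
  have hr : r.Prime := Fact.out
  haveI := isSolvable _ G rfl h
  refine le_antisymm ?_ (PCore.pCore_le_sylow S)
  by_cases hZ : Subgroup.center G = ⊥
  · refine le_trans (fun s hs => ?_) (Hall.centralizer_pCore_le r hcore)
    exact Subgroup.mem_centralizer_iff.2 fun v hv => h.sylow_comm hZ S v (PCore.pCore_le_sylow S hv) s hs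
  set Z := Subgroup.center G
  have hnone : ∀ x ∈ Z, ¬ r ∣ orderOf x → x = 1 := by
    intro x hx hxr
    haveI := zpowers_normal_of_central hx
    have h1 := PCore.le_pPrimeCore_of_not_dvd (p := r) (N := Subgroup.zpowers x) inferInstance
      (by rwa [Nat.card_zpowers])
    rw [hcore, Subgroup.zpowers_le, Subgroup.mem_bot] at h1
    exact h1
  have hZp : IsPGroup r Z := by
    intro z
    obtain ⟨a, b, hab, -, ⟨k, hk⟩, hb, -, hbz⟩ := split hr (z : G)
    rw [hnone b (Subgroup.zpowers_le.2 z.2 hbz) hb, mul_one] at hab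
    exact ⟨k, Subtype.ext (by rw [SubmonoidClass.coe_pow, hab, ← hk, pow_orderOf_eq_one]; rfl)⟩
  let π := QuotientGroup.mk' Z
  have hπ : Function.Surjective π := QuotientGroup.mk'_surjective Z
  have hcore' : Cfsg.pPrimeCore r (G ⧸ Z) = ⊥ := by
    set M := (Cfsg.pPrimeCore r (G ⧸ Z)).comap π
    haveI : (Cfsg.pPrimeCore r (G ⧸ Z)).Normal := by
      haveI := PCore.pPrimeCore_characteristic r (G ⧸ Z)
      infer_instance
    haveI hMn : M.Normal := Subgroup.Normal.comap inferInstance π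
    have hZM : Z ≤ M := fun z hz => by
      rw [Subgroup.mem_comap, show π z = 1 from (QuotientGroup.eq_one_iff z).2 hz]
      exact one_mem _
    obtain ⟨k, hk⟩ := hZp.exists_card_eq
    have hMc : Nat.card M = Nat.card Z * Nat.card (Cfsg.pPrimeCore r (G ⧸ Z)) := PCore.card_comap_mk' Z _
    have hidx : (Z.subgroupOf M).index = Nat.card (Cfsg.pPrimeCore r (G ⧸ Z)) := by
      have h1 := (Z.subgroupOf M).card_mul_index
      rw [Nat.card_congr (Subgroup.subgroupOfEquivOfLe hZM).toEquiv, hMc] at h1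
      exact Nat.eq_of_mul_eq_mul_left Nat.card_pos h1
    have hcop := PCore.pPrimeCore_coprime r (G ⧸ Z)
    obtain ⟨K, hK⟩ := Subgroup.exists_right_complement'_of_coprime (N := Z.subgroupOf M)
      (by rw [hidx, Nat.card_congr (Subgroup.subgroupOfEquivOfLe hZM).toEquiv, hk]; exact (hcop.pow_right k).symm)
    have hKc : Nat.card K = Nat.card (Cfsg.pPrimeCore r (G ⧸ Z)) := hidx ▸ hK.symm.index_eq_card.symm
    haveI hKn : K.Normal := ⟨fun c hc m => by
      obtain ⟨⟨z, c'⟩, rfl⟩ := hK.2 m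
      have hz : ((z : M) : G) ∈ Z := z.2
      have e : ((z : M) * c') * c * ((z : M) * c')⁻¹ = (c' : M) * c * (c' : M)⁻¹ := by
        refine Subtype.ext ?_
        simp only [Subgroup.coe_mul, Subgroup.coe_inv]
        calc (z : M).1 * (c' : M).1 * c.1 * ((z : M).1 * (c' : M).1)⁻¹
            = (z : M).1 * ((c' : M).1 * c.1 * (c' : M).1⁻¹) * (z : M).1⁻¹ := by group
          _ = _ := by rw [← Subgroup.mem_center_iff.1 hz, mul_inv_cancel_right]
      rw [e]
      exact mul_mem (mul_mem c'.2 hc) (inv_mem c'.2)⟩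
    have hKi : K.index = r ^ k := by
      have h1 := K.card_mul_index
      rw [hKc, hMc, hk, mul_comm (r ^ k)] at h1
      exact Nat.eq_of_mul_eq_mul_left (hKc ▸ Nat.card_pos) h1
    have hn : (K.map M.subtype).Normal := ⟨by
      rintro _ ⟨c, hc, rfl⟩ g
      refine ⟨⟨g * c * g⁻¹, hMn.conj_mem _ c.2 g⟩, mem_of_pow_mem (Subgroup.pow_index_mem K _) ?_, rfl⟩
      rw [hKi, ← Subgroup.orderOf_coe]
      show (r ^ k).Coprime (orderOf (g * (c : G) * g⁻¹))
      rw [orderOf_conj, Subgroup.orderOf_coe]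
      exact ((hcop.coprime_dvd_left (hKc ▸ Subgroup.orderOf_dvd_natCard K hc)).symm).pow_left k⟩
    have h2 := PCore.le_pPrimeCore hn (p := r)
      (by rw [Subgroup.card_map_of_injective (Subgroup.subtype_injective _), hKc]; exact hcop)
    rw [hcore, le_bot_iff, Subgroup.map_eq_bot_iff_of_injective _ (Subgroup.subtype_injective _)] at h2
    rw [← Subgroup.card_eq_one, ← hKc, h2, Subgroup.card_bot]
  have hih := ih _ (hN ▸ Hall.Supersolv.card_quotient_lt hZ) (G ⧸ Z) rfl (h.quotient Z) r hcore' (S.mapSurjective hπ)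
  have hn : ((S : Subgroup G).map π).Normal := by
    change (S.mapSurjective hπ : Subgroup (G ⧸ Z)).Normal
    rw [hih]
    haveI := PCore.pCore_characteristic r (G ⧸ Z)
    infer_instance
  have hZS : Z ≤ (S : Subgroup G) := fun z hz => exists_pPart_mem S
    (Subgroup.mem_normalizer_iff.2 fun x => by rw [← Subgroup.mem_center_iff.1 hz x, mul_inv_cancel_right])
    (PElt.of_mem hr hZp hz)
  have hSn : (S : Subgroup G).Normal := by
    have := hn.comap π
    rwa [Subgroup.comap_map_eq, show π.ker = Z from QuotientGroup.ker_mk' Z, sup_eq_left.2 hZS] at this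
  exact PCore.le_pCore hSn S.isPGroup'

theorem not_sq_dvd_of_core_eq_bot [Finite G] [Fact r.Prime] (h : SF G) (hcore : Cfsg.pPrimeCore r G = ⊥) :
    ¬ r ^ 2 ∣ Nat.card (commutator G) := by
  have hr : r.Prime := Fact.out
  haveI := isSolvable _ G rfl h
  obtain ⟨S⟩ := (inferInstance : Nonempty (Sylow r G))
  have hSV := sylow_normal _ G rfl h r hcore S
  haveI hSn : (S : Subgroup G).Normal := by
    rw [hSV]
    haveI := PCore.pCore_characteristic r G
    infer_instance
  have hCS : Subgroup.centralizer ((S : Subgroup G) : Set G) ≤ (S : Subgroup G) := by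
    rw [hSV]; exact Hall.centralizer_pCore_le r hcore
  have hSmem : ∀ g : G, PElt r g → g ∈ (S : Subgroup G) := fun g hg => exists_pPart_mem S
    (by rw [Subgroup.normalizer_eq_top]; exact Subgroup.mem_top g) hg
  by_cases hall : ∀ g : G, ¬ r ∣ orderOf g → g ∈ Subgroup.centralizer ((S : Subgroup G) : Set G)
  · refine not_sq_dvd_commutator (fun g => ?_) h
    obtain ⟨a, b, rfl, -, ⟨k, hk⟩, hb, -, -⟩ := split hr g
    have hb1 : b = 1 := (PElt.of_mem hr S.isPGroup' (hCS (hall b hb))).eq_one hr hb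
    subst hb1
    rw [mul_one]
    exact ⟨k, by rw [← hk, pow_orderOf_eq_one]⟩
  push Not at hall
  obtain ⟨y, hy, hyC⟩ := hall
  set W := C y ⊓ (S : Subgroup G)
  have hWi : (C y).relIndex (S : Subgroup G) = r := by
    refine (h.relIndex hr _ S.isPGroup' y).resolve_left fun e => hyC ?_
    rw [Subgroup.relIndex_eq_one] at e
    exact Subgroup.mem_centralizer_iff.2 fun s hs => mem_C.1 (e hs)
  have hWn : ∀ v ∈ (S : Subgroup G), ∀ c ∈ W, v * c * v⁻¹ ∈ W := by
    intro v hv c hc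
    haveI : ((C y).subgroupOf (S : Subgroup G)).Normal := by
      refine Subgroup.normal_of_index_eq_minFac_card (hWi.trans ?_)
      obtain ⟨k, hk⟩ := S.isPGroup'.exists_card_eq
      rw [hk, hr.pow_minFac]
      rintro rfl
      have := hWi ▸ Subgroup.relIndex_dvd_card (C y) (S : Subgroup G)
      rw [hk, pow_zero, Nat.dvd_one] at this
      exact hr.ne_one this
    exact ⟨(inferInstance : ((C y).subgroupOf (S : Subgroup G)).Normal).conj_mem ⟨c, hc.2⟩ hc.1 ⟨v, hv⟩,
      (S : Subgroup G).mul_mem ((S : Subgroup G).mul_mem hv hc.2) ((S : Subgroup G).inv_mem hv)⟩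
  -- the commutators of `y` centralize `W`
  have hdW : ∀ v ∈ (S : Subgroup G), ∀ c ∈ W, ⁅y, v⁆ * c = c * ⁅y, v⁆ := by
    intro v hv c hc
    have h1 := hWn v⁻¹ (inv_mem hv) c hc
    have h2 : y * (v⁻¹ * c * v) = v⁻¹ * c * v * y := by simpa using (mem_C.1 h1.1).symm
    have h3 : y * c = c * y := (mem_C.1 hc.1).symm
    have e : (y * v * y⁻¹) * (v⁻¹ * c * v) * (y * v * y⁻¹)⁻¹ = c := by
      calc (y * v * y⁻¹) * (v⁻¹ * c * v) * (y * v * y⁻¹)⁻¹
          = y * v * (y⁻¹ * ((v⁻¹ * c * v) * y)) * v⁻¹ * y⁻¹ := by group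
        _ = y * c * y⁻¹ := by rw [← h2]; group
        _ = c := by rw [h3, mul_inv_cancel_right]
    calc ⁅y, v⁆ * c = (y * v * y⁻¹) * (v⁻¹ * c * v) * (y * v * y⁻¹)⁻¹ * (y * v * y⁻¹) * v⁻¹ := by
          simp only [commutatorElement_def]; group
      _ = _ := by rw [e, commutatorElement_def]; group
  have hdS : ∀ g : G, ∀ v ∈ (S : Subgroup G), ⁅g, v⁆ ∈ (S : Subgroup G) := fun g v hv => by
    rw [commutatorElement_def]
    exact mul_mem (hSn.conj_mem v hv g) (inv_mem hv)
  have hfix : ∀ v ∈ (S : Subgroup G), y * ⁅y, v⁆ = ⁅y, v⁆ * y → ⁅y, v⁆ = 1 := by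
    intro v hv hc
    have hd : Commute ⁅y, v⁆ v → ⁅y, v⁆ = 1 := fun hcv => by
      have he := conj_pow_step (show y * v * y⁻¹ = v * ⁅y, v⁆ by
        rw [← hcv.eq, commutatorElement_def]; group) hc (orderOf y)
      rw [pow_orderOf_eq_one, inv_one, one_mul, mul_one, left_eq_mul] at he
      exact (PElt.of_mem hr S.isPGroup' (hdS y v hv)).eq_one hr
        fun h' => hy (h'.trans (orderOf_dvd_of_pow_eq_one he))
    have hc' : ∀ i : ℕ, y ^ i * v * (y ^ i)⁻¹ = ⁅y, v⁆ ^ i * v := by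
      intro i
      induction i with
      | zero => simp
      | succ i ih =>
        have hcc : y * ⁅y, v⁆ ^ i * y⁻¹ = ⁅y, v⁆ ^ i := by
          rw [((show Commute y ⁅y, v⁆ from hc).pow_right i).eq, mul_inv_cancel_right]
        calc y ^ (i + 1) * v * (y ^ (i + 1))⁻¹ = y * (y ^ i * v * (y ^ i)⁻¹) * y⁻¹ := by rw [pow_succ']; group
          _ = (y * ⁅y, v⁆ ^ i * y⁻¹) * (⁅y, v⁆ * v) := by rw [ih, commutatorElement_def y v]; group
          _ = _ := by rw [hcc, pow_succ, mul_assoc]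
    have he := hc' (orderOf y)
    rw [pow_orderOf_eq_one, inv_one, one_mul, mul_one, right_eq_mul] at he
    exact (PElt.of_mem hr S.isPGroup' (hdS y v hv)).eq_one hr
      fun h' => hy (h'.trans (orderOf_dvd_of_pow_eq_one he))
  obtain ⟨v0, hv0, hd0⟩ : ∃ v ∈ (S : Subgroup G), ⁅y, v⁆ ∉ W := by
    by_contra hno
    push Not at hno
    refine hyC (Subgroup.mem_centralizer_iff.2 fun v hv => ?_)
    exact (commutatorElement_eq_one_iff_mul_comm.1 (hfix v hv (mem_C.1 (hno v hv).1).symm)).symm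
  set d := ⁅y, v0⁆
  have hgenS : ∀ s ∈ (S : Subgroup G), ∃ c ∈ W, ∃ i : ℕ, s = c * d ^ i := by
    intro s hs
    haveI hn : ((C y).subgroupOf (S : Subgroup G)).Normal := ⟨fun c hc v =>
      (hWn v v.2 c.1 ⟨hc, c.2⟩).1⟩
    obtain ⟨i, hi⟩ := Submonoid.mem_powers_iff _ _ |>.1 (mem_powers_of_prime_card (p := r)
      (G := (S : Subgroup G) ⧸ (C y).subgroupOf (S : Subgroup G)) hWi
      (g := QuotientGroup.mk ⟨d, hdS y v0 hv0⟩)
      (fun e => hd0 ⟨Subgroup.mem_subgroupOf.1 ((QuotientGroup.eq_one_iff _).1 e), hdS y v0 hv0⟩)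
      (g' := QuotientGroup.mk ⟨s, hs⟩))
    refine ⟨s * (d ^ i)⁻¹, ⟨?_, (S : Subgroup G).mul_mem hs ((S : Subgroup G).inv_mem ((S : Subgroup G).pow_mem (hdS y v0 hv0) i))⟩, i,
      (inv_mul_cancel_right _ _).symm⟩
    have : (QuotientGroup.mk ((⟨s, hs⟩ : (S : Subgroup G)) * (⟨d, hdS y v0 hv0⟩ ^ i)⁻¹) :
        _ ⧸ (C y).subgroupOf (S : Subgroup G)) = 1 := by
      rw [QuotientGroup.mk_mul, QuotientGroup.mk_inv, QuotientGroup.mk_pow, hi, mul_inv_cancel]
    exact Subgroup.mem_subgroupOf.1 ((QuotientGroup.eq_one_iff _).1 this)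
  have hWab : ∀ c ∈ W, ∀ c' ∈ W, Commute c c' := by
    intro c hc c' hc'
    have hcp := PElt.of_mem hr S.isPGroup' hc.2
    have e : C (c * y) = C c ⊓ C y := C_mul (mem_C.1 hc.1) (hcp.coprime hr hy)
    have hle : C (c * y) ⊓ (S : Subgroup G) ≤ W := fun x hx => ⟨(e.le hx.1).2, hx.2⟩
    have heq : C (c * y) ⊓ (S : Subgroup G) = W := by
      have h1 : W.relIndex (S : Subgroup G) = r := by rw [Subgroup.inf_relIndex_right]; exact hWi
      have h2 : (C (c * y)).relIndex (S : Subgroup G) ≤ r := by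
        rcases h.relIndex hr _ S.isPGroup' (c * y) with e2 | e2 <;> rw [e2]
        exact hr.pos
      have h3 := Subgroup.relIndex_mul_relIndex _ _ _ hle (inf_le_right : W ≤ (S : Subgroup G))
      rw [h1, Subgroup.inf_relIndex_right] at h3
      have hpos : 0 < (C (c * y) ⊓ (S : Subgroup G)).relIndex W :=
        Nat.pos_of_ne_zero Subgroup.index_ne_zero_of_finite
      have h4 : (C (c * y) ⊓ (S : Subgroup G)).relIndex W = 1 := by
        have := hr.pos
        nlinarith
      exact le_antisymm hle (Subgroup.relIndex_eq_one.1 h4)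
    exact ((mem_C.1 (e.le (heq.ge hc').1).1)).symm
  have hSab : ∀ a ∈ (S : Subgroup G), ∀ b ∈ (S : Subgroup G), Commute a b := by
    intro a ha b hb
    obtain ⟨c, hc, i, rfl⟩ := hgenS a ha
    obtain ⟨c', hc', j, rfl⟩ := hgenS b hb
    exact ((hWab c hc c' hc').mul_right ((show Commute c d from (hdW v0 hv0 c hc).symm).pow_right j)).mul_left
      (((show Commute d c' from hdW v0 hv0 c' hc').pow_left i).mul_right ((Commute.refl d).pow_pow i j))
  -- the commutator maps
  let φ : G → (S : Subgroup G) →* G := fun g => MonoidHom.mk' (fun s => ⁅g, (s : G)⁆) fun s t => by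
    show ⁅g, (s : G) * t⁆ = ⁅g, (s : G)⁆ * ⁅g, (t : G)⁆
    calc ⁅g, (s : G) * t⁆ = ⁅g, (s : G)⁆ * ((s : G) * ⁅g, (t : G)⁆) * (s : G)⁻¹ := by
          simp only [commutatorElement_def]; group
      _ = _ := by rw [(hSab s s.2 _ (hdS g t t.2)).eq]; group
  have hφker : ∀ g : G, (φ g).ker = (C g).subgroupOf (S : Subgroup G) := fun g => by
    ext s
    rw [MonoidHom.mem_ker, Subgroup.mem_subgroupOf, mem_C]
    show ⁅g, (s : G)⁆ = 1 ↔ _
    rw [commutatorElement_eq_one_iff_mul_comm, eq_comm]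
  set L := (φ y).range
  have hLS : L ≤ (S : Subgroup G) := by rintro _ ⟨s, rfl⟩; exact hdS y s s.2
  have hLc : Nat.card L = r := by
    rw [← Subgroup.index_ker, hφker]; exact hWi
  have hLW : L ⊓ W = ⊥ := by
    rw [eq_bot_iff]
    rintro _ ⟨⟨s, rfl⟩, hW⟩
    exact Subgroup.mem_bot.2 (hfix s s.2 (mem_C.1 hW.1).symm)
  -- every range is inside `L`
  have hφa : ∀ a ∈ (S : Subgroup G), ∀ (g : G) (s : (S : Subgroup G)), φ (g * a) s = φ g s := by
    intro a ha g s
    show ⁅g * a, (s : G)⁆ = ⁅g, (s : G)⁆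
    calc ⁅g * a, (s : G)⁆ = g * (a * s * a⁻¹) * g⁻¹ * (s : G)⁻¹ := by simp only [commutatorElement_def]; group
      _ = _ := by rw [(hSab a ha s s.2).eq, mul_inv_cancel_right, commutatorElement_def]
  have hgL : ∀ g : G, (φ g).range ≤ L := by
    intro g
    obtain ⟨a, z, rfl, haz, ha, hz, -, -⟩ := split hr g
    rintro _ ⟨s, rfl⟩
    rw [haz, hφa a (hSmem a ha)]
    by_contra hnot
    set L2 := (φ z).range
    have hzs : φ z s ∈ L2 := ⟨s, rfl⟩
    have hL2c : Nat.card L2 = r := by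
      rw [← Subgroup.index_ker, hφker]
      refine (h.relIndex hr _ S.isPGroup' z).resolve_left fun e => hnot ?_
      rw [Subgroup.relIndex_eq_one] at e
      have : φ z s = 1 := by rw [← MonoidHom.mem_ker, hφker]; exact e s.2
      rw [this]; exact one_mem _
    have hdisj : L ⊓ L2 = ⊥ := by
      by_contra hne
      have hd := Subgroup.card_dvd_of_le (inf_le_right : L ⊓ L2 ≤ L2)
      rw [hL2c] at hd
      have hc := ((Nat.dvd_prime hr).1 hd).resolve_left fun e => hne (Subgroup.eq_bot_of_card_eq _ e)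
      exact hnot ((inf_le_left : L ⊓ L2 ≤ L)
        ((eq_of_le_of_card (inf_le_right : L ⊓ L2 ≤ L2) (hc.trans hL2c.symm)).ge hzs))
    -- the fixed points agree
    have hfeq : ∀ t : (S : Subgroup G), (t : G) ∈ C (y * z) → (t : G) ∈ C y ∧ (t : G) ∈ C z := by
      intro t ht
      have h2 : φ z t = φ y⁻¹ t := by
        show ⁅z, (t : G)⁆ = ⁅y⁻¹, (t : G)⁆
        calc ⁅z, (t : G)⁆ = y⁻¹ * ((y * z) * t * (y * z)⁻¹) * y * (t : G)⁻¹ := by
              simp only [commutatorElement_def]; group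
          _ = _ := by rw [← mem_C.1 ht, mul_inv_cancel_right, commutatorElement_def, inv_inv]
      have hy' : φ y⁻¹ t ∈ L := by
        refine ⟨⟨y⁻¹ * (t : G) * y, by simpa using hSn.conj_mem _ t.2 y⁻¹⟩⁻¹, ?_⟩
        rw [map_inv]
        show ⁅y, y⁻¹ * (t : G) * y⁆⁻¹ = ⁅y⁻¹, (t : G)⁆
        simp only [commutatorElement_def]
        group
      have h3 : φ z t ∈ L ⊓ L2 := ⟨h2 ▸ hy', t, rfl⟩
      rw [hdisj, Subgroup.mem_bot] at h3
      refine ⟨?_, mem_C.2 (commutatorElement_eq_one_iff_mul_comm.1 h3).symm⟩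
      rw [h3] at h2
      have h4 : Commute y⁻¹ (t : G) := commutatorElement_eq_one_iff_mul_comm.1 h2.symm
      exact mem_C.2 (Commute.inv_left_iff.1 h4).eq.symm
    have hle : C (y * z) ⊓ (S : Subgroup G) ≤ W := fun x hx => ⟨(hfeq ⟨x, hx.2⟩ hx.1).1, hx.2⟩
    have heq : W ≤ C (y * z) ⊓ (S : Subgroup G) := by
      have h1 : W.relIndex (S : Subgroup G) = r := by rw [Subgroup.inf_relIndex_right]; exact hWi
      have h2 : (C (y * z)).relIndex (S : Subgroup G) ≤ r := by
        rcases h.relIndex hr _ S.isPGroup' (y * z) with e2 | e2 <;> rw [e2]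
        exact hr.pos
      have h3 := Subgroup.relIndex_mul_relIndex _ _ _ hle (inf_le_right : W ≤ (S : Subgroup G))
      rw [h1, Subgroup.inf_relIndex_right] at h3
      have hpos : 0 < (C (y * z) ⊓ (S : Subgroup G)).relIndex W :=
        Nat.pos_of_ne_zero Subgroup.index_ne_zero_of_finite
      have h4 : (C (y * z) ⊓ (S : Subgroup G)).relIndex W = 1 := by
        have := hr.pos
        nlinarith
      exact Subgroup.relIndex_eq_one.1 h4
    have hWz : ∀ w ∈ W, w ∈ C z := fun w hw => (hfeq ⟨w, hw.2⟩ (heq hw).1).2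
    -- `z` normalizes `L`
    set c := ⁅y, z⁆ with hc
    have hy' : ∀ w ∈ W, Commute y w := fun w hw => (mem_C.1 hw.1).symm
    have hz' : ∀ w ∈ W, Commute z w := fun w hw => (mem_C.1 (hWz w hw)).symm
    have hyz : ∀ w ∈ W, Commute (y * z) w := fun w hw => (hy' w hw).mul_left (hz' w hw)
    have hzy : ∀ w ∈ W, Commute (z * y) w := fun w hw => (hz' w hw).mul_left (hy' w hw)
    have hcW : ∀ w ∈ W, Commute c w := by
      intro w hw
      rw [hc, commutatorElement_def]
      exact (((hy' w hw).mul_left (hz' w hw)).mul_left (hy' w hw).inv_left).mul_left (hz' w hw).inv_left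
    have hWd : ∀ w ∈ W, Commute w d := fun w hw => (hdW v0 hv0 w hw).symm
    have f : ∀ (g : G), (∀ w ∈ W, Commute g w) → ∀ w ∈ W, ∀ k : ℕ, ∀ w' ∈ W, ∀ l : ℕ,
        g * d * g⁻¹ = w' * d ^ l → g * (w * d ^ k) * g⁻¹ = (w * w' ^ k) * d ^ (l * k) := by
      intro g hg w hw k w' hw' l e
      calc g * (w * d ^ k) * g⁻¹ = (g * w * g⁻¹) * (g * d ^ k * g⁻¹) := by group
        _ = w * ((w' * d ^ l) ^ k) := by rw [(hg w hw).eq, mul_inv_cancel_right, ← conj_pow, e]
        _ = _ := by rw [((hWd w' hw').pow_right l).mul_pow, ← pow_mul, mul_assoc]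
    obtain ⟨w1, hw1, i, e1⟩ := hgenS _ (hSn.conj_mem d (hdS y v0 hv0) y)
    obtain ⟨w2, hw2, j, e2⟩ := hgenS _ (hSn.conj_mem d (hdS y v0 hv0) z)
    have a1 := f y hy' w2 hw2 j w1 hw1 i e1
    have a2 := f z hz' w1 hw1 i w2 hw2 j e2
    rw [← e2] at a1
    rw [← e1] at a2
    set wa := w2 * w1 ^ j
    set wb := w1 * w2 ^ i
    have hwa : wa ∈ W := mul_mem hw2 (pow_mem hw1 _)
    have hwb : wb ∈ W := mul_mem hw1 (pow_mem hw2 _)
    obtain ⟨w3, hw3, k, e3⟩ := hgenS _ (hSn.conj_mem d (hdS y v0 hv0) (z * y)⁻¹)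
    rw [inv_inv] at e3
    have b1 : y * z * d * (y * z)⁻¹ = wa * d ^ (i * j) := by rw [← a1]; group
    have b2 : z * y * d * (z * y)⁻¹ = wb * d ^ (i * j) := by rw [mul_comm i j, ← a2]; group
    have b3 := f (z * y) hzy w3 hw3 k wb hwb (i * j) b2
    have b4 := f (y * z) hyz w3 hw3 k wa hwa (i * j) b1
    rw [← e3] at b3 b4
    have b5 : d = w3 * wb ^ k * d ^ (i * j * k) := by rw [← b3]; group
    have b6 : c * d * c⁻¹ = w3 * wa ^ k * d ^ (i * j * k) := by
      rw [← b4, hc, commutatorElement_def]; group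
    set w := wa ^ k * (wb ^ k)⁻¹ with hw'
    have hwW : w ∈ W := mul_mem (pow_mem hwa _) (inv_mem (pow_mem hwb _))
    have b7 : c * d * c⁻¹ = d * w := by
      rw [← (hWd w hwW).eq, b6]
      conv_rhs => rw [b5]
      rw [← mul_assoc w, ← mul_assoc w, (hWab w hwW w3 hw3).eq, mul_assoc w3 w, hw', inv_mul_cancel_right]
    obtain ⟨t, ht⟩ := PElt.of_mem hr S.isPGroup' hwW.2
    have b8 := conj_pow_step b7 (hcW w hwW) (r ^ t)
    rw [← ht, pow_orderOf_eq_one, mul_one, mul_inv_eq_iff_eq_mul, ht] at b8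
    have hcS : c ∈ (S : Subgroup G) := by
      have h1 : c ^ (r ^ t) ∈ Subgroup.centralizer ((S : Subgroup G) : Set G) := by
        rw [Subgroup.mem_centralizer_iff]
        intro q hq
        obtain ⟨u, hu, l, rfl⟩ := hgenS q hq
        exact ((((hcW u hu).pow_left _).mul_right ((show Commute (c ^ (r ^ t)) d from b8).pow_right l)).eq).symm
      obtain ⟨ca, cb, hcab, -, hca, hcb, -, hcbz⟩ := split hr c
      obtain ⟨e, he⟩ := hcbz
      have h2 : cb ^ (r ^ t) ∈ (S : Subgroup G) := by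
        rw [← he, ← zpow_natCast, zpow_comm, zpow_natCast]
        exact zpow_mem (hCS h1) e
      rw [hcab]
      exact mul_mem (hSmem ca hca) (mem_of_pow_mem h2 ((hr.coprime_iff_not_dvd.2 hcb).pow_left t))
    have hLz : ∀ l ∈ L, ⁅z, l⁆ ∈ L := by
      rintro _ ⟨q, rfl⟩
      have h1 : z * φ y q * z⁻¹ ∈ L := by
        refine ⟨⟨z * (q : G) * z⁻¹, hSn.conj_mem _ q.2 z⟩, ?_⟩
        rw [← hφa (y⁻¹ * c⁻¹ * y) (by simpa using hSn.conj_mem _ (inv_mem hcS) y⁻¹) y]
        show ⁅y * (y⁻¹ * c⁻¹ * y), z * (q : G) * z⁻¹⁆ = z * ⁅y, (q : G)⁆ * z⁻¹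
        rw [hc]
        simp only [commutatorElement_def]
        group
      rw [commutatorElement_def]
      exact mul_mem h1 (inv_mem ⟨q, rfl⟩)
    have hdL : d ∈ L := ⟨⟨v0, hv0⟩, rfl⟩
    have hdz : Commute z d := by
      have h1 : ⁅z, d⁆ ∈ L ⊓ L2 := ⟨hLz d hdL, ⟨d, hdS y v0 hv0⟩, rfl⟩
      rw [hdisj, Subgroup.mem_bot] at h1
      exact commutatorElement_eq_one_iff_mul_comm.1 h1
    obtain ⟨u, hu, l, hl⟩ := hgenS s s.2
    refine hnot ?_
    have : φ z s = 1 := by
      show ⁅z, (s : G)⁆ = 1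
      rw [commutatorElement_eq_one_iff_mul_comm, hl]
      exact ((hz' u hu).mul_right (hdz.pow_right l)).eq
    rw [this]
    exact one_mem _
  -- `L` is normal and the image of `S` is central
  haveI hLn : L.Normal := ⟨fun l hl g => by
    have h1 : ⁅g, l⁆ ∈ L := hgL g ⟨⟨l, hLS hl⟩, rfl⟩
    rw [commutatorElement_def] at h1
    simpa using mul_mem h1 hl⟩
  let π := QuotientGroup.mk' L
  have hπ : Function.Surjective π := QuotientGroup.mk'_surjective L
  set Sb := S.mapSurjective hπ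
  have hcen : ∀ g : G, ∀ q ∈ (S : Subgroup G), π g * π q = π q * π g := fun g q hq => by
    rw [← commutatorElement_eq_one_iff_mul_comm, ← map_commutatorElement]
    exact (QuotientGroup.eq_one_iff _).2 (hgL g ⟨⟨q, hq⟩, rfl⟩)
  have hP : Subgroup.normalizer ((Sb : Subgroup (G ⧸ L)) : Set (G ⧸ L)) ≤
      Subgroup.centralizer ((Sb : Subgroup (G ⧸ L)) : Set (G ⧸ L)) := by
    intro x _
    obtain ⟨g, rfl⟩ := hπ x
    rw [Subgroup.mem_centralizer_iff]
    rintro _ ⟨q, hq, rfl⟩
    exact (hcen g q hq).symm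
  set T := MonoidHom.transferSylow Sb hP
  have hTab : ∀ a b : (Sb : Subgroup (G ⧸ L)), a * b = b * a := by
    rintro ⟨_, a, ha, rfl⟩ ⟨_, b, hb, rfl⟩
    exact Subtype.ext (hcen a b hb)
  have hGL : commutator G ⊓ (S : Subgroup G) ≤ L := by
    intro x hx
    have hk : commutator G ≤ (T.comp π).ker := by
      rw [commutator_def, Subgroup.commutator_le]
      intro a _ b _
      rw [MonoidHom.mem_ker, map_commutatorElement, commutatorElement_eq_one_iff_mul_comm]
      exact hTab _ _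
    have h1 : π x ∈ T.ker ⊓ (Sb : Subgroup (G ⧸ L)) := ⟨hk hx.1, Subgroup.mem_map_of_mem π hx.2⟩
    rw [disjoint_iff.1 (MonoidHom.ker_transferSylow_disjoint Sb hP _ Sb.isPGroup'), Subgroup.mem_bot] at h1
    exact (QuotientGroup.eq_one_iff x).1 h1
  intro hd
  obtain ⟨R, hR⟩ := Sylow.exists_subgroup_card_pow_prime (G := commutator G) r hd
  have hRc : Nat.card (R.map (commutator G).subtype) = r ^ 2 := by
    rw [Subgroup.card_map_of_injective (Subgroup.subtype_injective _), hR]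
  have hRL : R.map (commutator G).subtype ≤ L := fun x hx =>
    hGL ⟨Subgroup.map_subtype_le _ hx, hSmem x (PElt.of_mem hr (IsPGroup.of_card hRc) hx)⟩
  have := Nat.le_of_dvd hr.pos (hRc ▸ hLc ▸ Subgroup.card_dvd_of_le hRL)
  nlinarith [hr.two_le]

theorem not_sq_dvd [Finite G] [Fact r.Prime] (h : SF G) : ¬ r ^ 2 ∣ Nat.card (commutator G) := by
  intro hd
  have hr : r.Prime := Fact.out
  set M := Cfsg.pPrimeCore r G
  haveI : M.Normal := by
    haveI := PCore.pPrimeCore_characteristic r G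
    infer_instance
  let π := QuotientGroup.mk' M
  have hmap : (commutator G).map π = commutator (G ⧸ M) := by
    rw [commutator_def, commutator_def, Subgroup.map_commutator,
      Subgroup.map_top_of_surjective π (QuotientGroup.mk'_surjective M)]
  set f := π.subgroupMap (commutator G)
  have hker : Nat.card f.ker ∣ Nat.card M := by
    let g : f.ker →* M := (((commutator G).subtype).comp f.ker.subtype).codRestrict M fun x =>
      (QuotientGroup.eq_one_iff _).1 (congrArg Subtype.val (MonoidHom.mem_ker.1 x.2))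
    exact Subgroup.card_dvd_of_injective g fun a b e =>
      Subtype.ext (Subtype.ext (congrArg (fun q : M => (q : G)) e))
  have hc : Nat.card (commutator G) = Nat.card f.ker * Nat.card (commutator (G ⧸ M)) := by
    rw [← f.ker.card_mul_index, Subgroup.index_ker, MonoidHom.range_eq_top.2 (π.subgroupMap_surjective _),
      Subgroup.card_top]
    exact congrArg (fun K : Subgroup (G ⧸ M) => Nat.card f.ker * Nat.card K) hmap
  rw [hc] at hd
  exact not_sq_dvd_of_core_eq_bot (h.quotient M) PCore.pPrimeCore_quotient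
    ((((PCore.pPrimeCore_coprime r G).coprime_dvd_left hker).symm.pow_left 2).dvd_of_dvd_mul_left hd)

end CfsgLib.SquareFreeClasses
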