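import Cfsg.Agent.SquareFreeClasses.AbelianSylow
import Cfsg.Agent.TwoClasses.Basic
import Cfsg.Agent.PCore.PConstrained
import Cfsg.Agent.Hall.StructBatch
import Cfsg.Agent.Hall.Supersolvable

/-!
Groups with square-free class sizes: with trivial centre the Sylow subgroups are abelian, and the group is
solvable. Also groups of prime power order with classes of size at most the prime.
-/

set_option autoImplicit false

namespace CfsgLib.SquareFreeClasses

open OneMMN
open scoped commutatorElement

universe u

variable {G : Type u} [Group G] {p : ℕ}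

/-- All class sizes are square-free. -/
def SF (G : Type u) [Group G] : Prop := ∀ x : G, Squarefree (C x).index

theorem SF.not_sq (h : SF G) (hp : p.Prime) (x : G) : ¬ p ^ 2 ∣ (C x).index := fun hd => by
  rw [sq] at hd
  exact hp.ne_one (Nat.isUnit_iff.1 (h x p hd))

theorem SF.quotient [Finite G] (h : SF G) (N : Subgroup G) [N.Normal] : SF (G ⧸ N) := by
  intro x
  obtain ⟨g, rfl⟩ := QuotientGroup.mk'_surjective N x
  exact (h g).squarefree_of_dvd
    (ClassSize.index_centralizer_map_dvd _ (QuotientGroup.mk'_surjective N) g)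

theorem SF.normal [Finite G] (h : SF G) (N : Subgroup G) [N.Normal] : SF N := by
  intro x
  have e : C x = (C (x : G)).subgroupOf N := by
    ext y
    rw [Subgroup.mem_subgroupOf, mem_C, mem_C, Subtype.ext_iff]
    rfl
  rw [e]
  exact (h x).squarefree_of_dvd (ClassSize.relIndex_dvd_index_of_normal N _)

theorem SF.relIndex [Finite G] (h : SF G) (hp : p.Prime) (V : Subgroup G) [V.Normal] (hV : IsPGroup p V) (x : G) :
    (C x).relIndex V = 1 ∨ (C x).relIndex V = p := by
  haveI := Fact.mk hp
  obtain ⟨k, hk⟩ := hV.exists_card_eq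
  obtain ⟨i, -, hi⟩ := (Nat.dvd_prime_pow hp).1 (hk ▸ Subgroup.relIndex_dvd_card (C x) V)
  have hd := ClassSize.relIndex_dvd_index_of_normal V (C x)
  rw [hi] at hd ⊢
  have : i < 2 := by
    by_contra h2
    exact h.not_sq hp x ((pow_dvd_pow p (by omega)).trans hd)
  interval_cases i <;> simp

/-- Every element centralizes a conjugate of a subgroup of index `p` of the Sylow subgroup. -/
theorem SF.exists_conj [Finite G] [Fact p.Prime] (h : SF G) (S : Sylow p G) (x : G) :
    ∃ (g : G) (U : Subgroup (S : Subgroup G)), (U.index = 1 ∨ U.index = p) ∧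
      ∀ u ∈ U, (u : G) ∈ C (g * x * g⁻¹) := by
  have hp : p.Prime := Fact.out
  obtain ⟨T⟩ := (inferInstance : Nonempty (Sylow p (C x)))
  obtain ⟨g, hg⟩ := exists_conj_mem_sylow S (T.isPGroup'.map (C x).subtype)
  set T' := ((T : Subgroup (C x)).map (C x).subtype).map (MulAut.conj g).toMonoidHom
  have hT' : T' ≤ (S : Subgroup G) := by rintro _ ⟨t, ht, rfl⟩; exact hg t ht
  refine ⟨g, T'.subgroupOf S, ?_, ?_⟩
  · have hc : Nat.card T' = p ^ (Nat.card (C x)).factorization p := by
      rw [Subgroup.card_map_of_injective (MulAut.conj g).injective,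
        Subgroup.card_map_of_injective (Subgroup.subtype_injective _), T.card_eq_multiplicity]
    have h0 := (T'.subgroupOf (S : Subgroup G)).card_mul_index
    rw [Nat.card_congr (Subgroup.subgroupOfEquivOfLe hT').toEquiv, hc, S.card_eq_multiplicity,
      ← (C x).card_mul_index, Nat.factorization_mul Nat.card_pos.ne' Subgroup.index_ne_zero_of_finite,
      Finsupp.add_apply, pow_add] at h0
    rw [Nat.eq_of_mul_eq_mul_left (pow_pos hp.pos _) h0]
    have : (C x).index.factorization p < 2 := by
      by_contra h2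
      exact h.not_sq hp x ((hp.pow_dvd_iff_le_factorization Subgroup.index_ne_zero_of_finite).2 (by omega))
    interval_cases (C x).index.factorization p <;> simp
  · intro u hu
    obtain ⟨_, ⟨t, ht, rfl⟩, e⟩ := Subgroup.mem_subgroupOf.1 hu
    rw [C_conj]
    exact e ▸ Subgroup.mem_map_of_mem _ t.2

theorem commutator_le_of_index {S : Type*} [Group S] [Finite S] [Fact p.Prime] (hS : IsPGroup p S)
    (U : Subgroup S) (hU : U.index = 1 ∨ U.index = p) : commutator S ≤ U := by
  rcases hU with hU | hU
  · rw [Subgroup.index_eq_one] at hU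
    rw [hU]; exact le_top
  · have hd : p ∣ Nat.card S := hU ▸ U.index_dvd_card
    obtain ⟨k, hk⟩ := hS.exists_card_eq
    have hk0 : k ≠ 0 := fun e => (Fact.out : p.Prime).ne_one (Nat.dvd_one.1 (by rwa [hk, e, pow_zero] at hd))
    haveI : U.Normal := Subgroup.normal_of_index_eq_minFac_card
      (hU.trans (by rw [hk, (Fact.out : p.Prime).pow_minFac hk0]))
    haveI := isCyclic_of_prime_card (p := p) (α := S ⧸ U) hU
    have hker : commutator S ≤ (QuotientGroup.mk' U).ker := by
      rw [commutator_def, Subgroup.commutator_le]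
      intro a _ b _
      rw [MonoidHom.mem_ker, map_commutatorElement, commutatorElement_eq_one_iff_mul_comm]
      exact IsCyclic.commutative.is_comm.comm _ _
    rwa [QuotientGroup.ker_mk'] at hker

/-- With trivial centre the Sylow subgroups are abelian. -/
theorem SF.sylow_comm [Finite G] [Fact p.Prime] (h : SF G) (hZ : Subgroup.center G = ⊥) (S : Sylow p G) :
    ∀ a ∈ (S : Subgroup G), ∀ b ∈ (S : Subgroup G), a * b = b * a := by
  have hbot : commutator (S : Subgroup G) = ⊥ := by
    by_contra hne
    have hmem := S.isPGroup'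
    haveI : Group.IsNilpotent (S : Subgroup G) := hmem.isNilpotent
    obtain ⟨z, hz, hz1⟩ : ∃ z ∈ commutator (S : Subgroup G) ⊓ Subgroup.center (S : Subgroup G), z ≠ 1 :=
      (Subgroup.ne_bot_iff_exists_ne_one.1 (Hall.Struct.inf_center_ne_bot _ hne)).elim
        fun z hz => ⟨z.1, z.2, fun e => hz (Subtype.ext e)⟩
    have htop : C (z : G) = ⊤ := TwoClasses.eq_top_of_conj_cover _ fun x => by
      obtain ⟨g, U, hU, hUx⟩ := h.exists_conj S x
      refine ⟨g⁻¹, ?_⟩
      rw [inv_inv]
      exact mem_C_comm.1 (hUx z (commutator_le_of_index hmem U hU hz.1))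
    have := mem_center_iff_C.2 htop
    rw [hZ, Subgroup.mem_bot] at this
    exact hz1 (Subtype.ext this)
  intro a ha b hb
  have := Subgroup.commutator_mem_commutator (Subgroup.mem_top (⟨a, ha⟩ : (S : Subgroup G)))
    (Subgroup.mem_top (⟨b, hb⟩ : (S : Subgroup G)))
  rw [← commutator_def, hbot, Subgroup.mem_bot, commutatorElement_eq_one_iff_mul_comm] at this
  exact congrArg Subtype.val this

theorem isSolvable : ∀ (N : ℕ) (G : Type u) [Group G] [Finite G], Nat.card G = N → SF G → Group.IsSolvable G := by
  intro N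
  induction N using Nat.strong_induction_on with
  | _ N ih =>
  intro G _ _ hN h
  by_cases hab : Subsingleton G
  · exact Group.isSolvable_of_comm fun a b => Subsingleton.elim _ _
  by_cases hZ : Subgroup.center G = ⊥
  swap
  · haveI := ih _ (hN ▸ Hall.Supersolv.card_quotient_lt hZ) (G ⧸ Subgroup.center G) rfl (h.quotient _)
    haveI : Group.IsSolvable (Subgroup.center G) := Group.isSolvable_of_comm fun a b => (Subgroup.mem_center_iff.1 b.2 a.1 |> Subtype.ext)
    exact Group.isSolvable_of_ker_le_range (Subgroup.center G).subtype (QuotientGroup.mk' (Subgroup.center G))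
      (le_of_eq (by rw [QuotientGroup.ker_mk', Subgroup.range_subtype]))
  have hc : Nat.card G ≠ 1 := fun e => hab (Nat.card_eq_one_iff_unique.1 e).1
  set q := (Nat.card G).minFac
  have hq : q.Prime := Nat.minFac_prime hc
  haveI := Fact.mk hq
  obtain ⟨S⟩ := (inferInstance : Nonempty (Sylow q G))
  have hN' := normalizer_le_centralizer _ rfl q (fun r hr hrd => Nat.minFac_le_of_dvd hr.two_le hrd) S
    (h.sylow_comm hZ S) (fun y _ => h.not_sq hq y)
  set K := (MonoidHom.transferSylow S hN').ker
  have hKc := MonoidHom.ker_transferSylow_isComplement' S hN'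
  have hKi : K.index = Nat.card (S : Subgroup G) := hKc.symm.index_eq_card
  have hlt : Nat.card K < N := by
    rw [← hN, ← K.card_mul_index]
    refine lt_mul_of_one_lt_right Nat.card_pos ?_
    rw [hKi, S.card_eq_multiplicity]
    exact Nat.one_lt_pow (hq.factorization_pos_of_dvd Nat.card_pos.ne' (Nat.minFac_dvd _)).ne' hq.one_lt
  haveI := ih _ hlt K rfl (h.normal K)
  haveI : Group.IsSolvable (G ⧸ K) := by
    have : IsPGroup q (G ⧸ K) := IsPGroup.of_card (n := (Nat.card G).factorization q)
      (by rw [← S.card_eq_multiplicity, ← hKi]; rfl)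
    haveI := this.isNilpotent
    infer_instance
  exact Group.isSolvable_of_ker_le_range K.subtype (QuotientGroup.mk' K)
    (le_of_eq (by rw [QuotientGroup.ker_mk', Subgroup.range_subtype]))

/-- A `p`-group with classes of size at most `p` has derived subgroup of order at most `p`. -/
theorem not_sq_dvd_commutator [Finite G] [Fact p.Prime] (hG : IsPGroup p G) (h : SF G) :
    ¬ p ^ 2 ∣ Nat.card (commutator G) := by
  have hp : p.Prime := Fact.out
  have hidx : ∀ x : G, (C x).index = 1 ∨ (C x).index = p := by
    intro x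
    obtain ⟨k, hk⟩ := hG.exists_card_eq
    obtain ⟨i, -, hi⟩ := (Nat.dvd_prime_pow hp).1 (hk ▸ (C x).index_dvd_card)
    rw [hi]
    have : i < 2 := by
      by_contra h2
      exact h.not_sq hp x (hi ▸ pow_dvd_pow p (by omega))
    interval_cases i <;> simp
  have hcen : commutator G ≤ Subgroup.center G := fun c hc =>
    Subgroup.mem_center_iff.2 fun x => (mem_C.1 (commutator_le_of_index hG _ (hidx x) hc)).symm
  have hmemc : ∀ a b : G, ⁅a, b⁆ ∈ commutator G := fun a b =>
    (commutator_def G) ▸ Subgroup.commutator_mem_commutator (Subgroup.mem_top a) (Subgroup.mem_top b)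
  let D : G → G →* G := fun x => MonoidHom.mk' (fun y => ⁅x, y⁆) fun y z => by
    have := Subgroup.mem_center_iff.1 (hcen (hmemc x z)) y
    show ⁅x, y * z⁆ = ⁅x, y⁆ * ⁅x, z⁆
    calc ⁅x, y * z⁆ = ⁅x, y⁆ * (y * ⁅x, z⁆) * y⁻¹ := by simp only [commutatorElement_def]; group
      _ = _ := by rw [this]; group
  have hmul : ∀ x x' y : G, D (x * x') y = D x y * D x' y := by
    intro x x' y
    have := Subgroup.mem_center_iff.1 (hcen (hmemc x' y))
    show ⁅x * x', y⁆ = ⁅x, y⁆ * ⁅x', y⁆
    calc ⁅x * x', y⁆ = (x * ⁅x', y⁆) * x⁻¹ * ⁅x, y⁆ := by simp only [commutatorElement_def]; group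
      _ = ⁅x', y⁆ * ⁅x, y⁆ := by rw [this x]; group
      _ = _ := by rw [this]
  have hDk : ∀ x y, D x y = 1 ↔ y ∈ C x := fun x y => by
    show ⁅x, y⁆ = 1 ↔ _
    rw [commutatorElement_eq_one_iff_mul_comm, mem_C, eq_comm]
  have hcard : ∀ x, x ∉ Subgroup.center G → Nat.card (D x).range = p := fun x hx => by
    rw [← Subgroup.index_ker, show (D x).ker = C x from Subgroup.ext fun y => hDk x y]
    exact (hidx x).resolve_left fun e => hx (idx_eq_one_iff.1 e)
  -- two noncentral elements with different centralizers have the same range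
  have hdiff : ∀ x y, x ∉ Subgroup.center G → y ∉ Subgroup.center G → C x ≠ C y → (D x).range = (D y).range := by
    intro x y hx hy hne
    have hni : ∀ {a b : G}, a ∉ Subgroup.center G → b ∉ Subgroup.center G → C a ≠ C b → ¬ C a ≤ C b :=
      fun {a b} ha hb hne hle => hne (eq_of_le_of_index hle
        (((hidx a).resolve_left fun e => ha (idx_eq_one_iff.1 e)).trans
          ((hidx b).resolve_left fun e => hb (idx_eq_one_iff.1 e)).symm))
    obtain ⟨s, hs, hsx⟩ := SetLike.not_le_iff_exists.1 (hni hy hx (Ne.symm hne))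
    obtain ⟨t, ht, hty⟩ := SetLike.not_le_iff_exists.1 (hni hx hy hne)
    have hxy : x * y ∉ Subgroup.center G := fun hc => hsx <| by
      rw [← hDk]
      have := hmul x y s
      rw [(hDk (x * y) s).2 (mem_C.2 (Subgroup.mem_center_iff.1 hc s)), (hDk y s).2 hs, mul_one] at this
      exact this.symm
    have key : ∀ z w v : G, v ∉ Subgroup.center G → z ∉ Subgroup.center G → w ∉ C z → D v w = D z w →
        (D v).range = (D z).range := by
      intro z w v hv hz hw e
      haveI : Fact p.Prime := ⟨hp⟩
      have h1 : D z w ∈ (D v).range ⊓ (D z).range := ⟨⟨w, e⟩, ⟨w, rfl⟩⟩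
      have hne1 : (D v).range ⊓ (D z).range ≠ ⊥ := fun hb => hw ((hDk z w).1 (by rwa [hb, Subgroup.mem_bot] at h1))
      have hc2 : Nat.card ((D v).range ⊓ (D z).range : Subgroup G) = p := by
        have hd := Subgroup.card_dvd_of_le (inf_le_left : (D v).range ⊓ (D z).range ≤ (D v).range)
        rw [hcard v hv] at hd
        exact ((Nat.dvd_prime hp).1 hd).resolve_left fun h1 => hne1 (Subgroup.eq_bot_of_card_eq _ h1)
      rw [← eq_of_le_of_card (inf_le_left : (D v).range ⊓ (D z).range ≤ _) (hc2.trans (hcard v hv).symm),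
        eq_of_le_of_card (inf_le_right : (D v).range ⊓ (D z).range ≤ _) (hc2.trans (hcard z hz).symm)]
    rw [← key x s (x * y) hxy hx hsx (by rw [hmul, (hDk y s).2 hs, mul_one]),
      ← key y t (x * y) hxy hy hty (by rw [hmul, (hDk x t).2 ht, one_mul])]
  have hall : ∀ x y, x ∉ Subgroup.center G → y ∉ Subgroup.center G → (D x).range = (D y).range := by
    intro x y hx hy
    by_cases e : C x = C y
    swap
    · exact hdiff x y hx hy e
    obtain ⟨t, ht⟩ : ∃ t, t ∉ C x := by
      by_contra hh
      push Not at hh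
      exact hx (mem_center_iff_C.2 (eq_top_iff.2 fun t _ => hh t))
    have htc : t ∉ Subgroup.center G := fun hc => ht (center_le_C x hc)
    have hne : C x ≠ C t := fun e' => ht (e' ▸ self_mem_C t)
    rw [hdiff x t hx htc hne, hdiff y t hy htc (e ▸ hne)]
  by_cases hab : ∃ x, x ∉ Subgroup.center G
  · obtain ⟨x, hx⟩ := hab
    have hle : commutator G ≤ (D x).range := by
      rw [commutator_def, Subgroup.commutator_le]
      intro a _ b _
      by_cases ha : a ∈ Subgroup.center G
      · have : D a b = 1 := (hDk a b).2 (mem_C.2 ((Subgroup.mem_center_iff.1 ha b)))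
        exact (show ⁅a, b⁆ = 1 from this) ▸ one_mem _
      · exact hall a x ha hx ▸ ⟨b, rfl⟩
    intro hd
    have h1 := Nat.le_of_dvd hp.pos ((hd.trans (Subgroup.card_dvd_of_le hle)).trans (hcard x hx).dvd)
    nlinarith [hp.two_le]
  · push Not at hab
    intro hd
    have hle : commutator G ≤ ⊥ := by
      rw [commutator_def, Subgroup.commutator_le]
      intro a _ b _
      rw [Subgroup.mem_bot, commutatorElement_eq_one_iff_mul_comm]
      exact Subgroup.mem_center_iff.1 (hab b) a
    rw [le_bot_iff.1 hle, Subgroup.card_bot] at hd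
    have := Nat.le_of_dvd one_pos hd
    nlinarith [hp.two_le]

end CfsgLib.SquareFreeClasses
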